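import Groth.Agent.CSALib.Split

/-!
# Reduced norm and trace versus the regular representation
-/

set_option autoImplicit false

universe u v w

open scoped TensorProduct Kronecker

namespace CSALib

variable {k : Type u} [Field k]

theorem charpoly_kronecker_one {R : Type w} [CommRing R] {m p : Type v} [Fintype m] [DecidableEq m]
    [Fintype p] [DecidableEq p] (M : Matrix m m R) :
    (M ⊗ₖ (1 : Matrix p p R)).charpoly = M.charpoly ^ Fintype.card p := by
  have h : Matrix.charmatrix (M ⊗ₖ (1 : Matrix p p R)) = Matrix.charmatrix M ⊗ₖ (1 : Matrix p p (Polynomial R)) := by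
    ext ⟨i, j⟩ ⟨i', j'⟩
    simp only [Matrix.charmatrix_apply, Matrix.kroneckerMap_apply, Matrix.one_apply, Matrix.diagonal_apply,
      Prod.mk.injEq]
    by_cases h1 : i = i' <;> by_cases h2 : j = j' <;> simp [h1, h2]
  rw [Matrix.charpoly, h, Matrix.det_kronecker, Matrix.det_one, one_pow, mul_one]
  rfl

/-- The characteristic polynomial of scalar multiplication by an element of a field extension. -/
theorem charpoly_smul_tower (K : Type v) [Field K] [Algebra k K] [FiniteDimensional k K]
    {V : Type w} [AddCommGroup V] [Module k V] [Module K V] [IsScalarTower k K V] [FiniteDimensional K V]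
    [FiniteDimensional k V] (x : K) (f : Module.End k V) (hf : ∀ v, f v = x • v) :
    f.charpoly = (Algebra.lmul k K x).charpoly ^ Module.finrank K V := by
  let b := Module.finBasis k K
  let c := Module.finBasis K V
  let bc := b.smulTower c
  rw [← LinearMap.charpoly_toMatrix f bc, ← LinearMap.charpoly_toMatrix _ b]
  have h : LinearMap.toMatrix bc bc f =
      LinearMap.toMatrix b b (Algebra.lmul k K x) ⊗ₖ (1 : Matrix (Fin (Module.finrank K V)) _ k) := by
    ext ⟨i, j⟩ ⟨i', j'⟩
    rw [LinearMap.toMatrix_apply, Module.Basis.smulTower_apply, hf, Module.Basis.smulTower_repr_mk,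
      Matrix.kroneckerMap_apply, LinearMap.toMatrix_apply, smul_smul, map_smul, Finsupp.smul_apply,
      Module.Basis.repr_self, Finsupp.single_apply, Matrix.one_apply]
    by_cases h1 : j = j'
    · simp [h1]
    · simp [h1, Ne.symm h1]
  let m := Fin (Module.finrank k K)
  have := charpoly_kronecker_one (p := Fin (Module.finrank K V))
    (LinearMap.toMatrix b b (Algebra.lmul k K x))
  rw [Fintype.card_fin] at this
  rw [h, this]

theorem charpoly_mulLeft_matrix {K : Type w} [Field K] {n : ℕ} (M : Matrix (Fin n) (Fin n) K) :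
    (LinearMap.mulLeft K M).charpoly = M.charpoly ^ n := by
  classical
  let b := Matrix.stdBasis K (Fin n) (Fin n)
  rw [← LinearMap.charpoly_toMatrix _ b]
  have h : LinearMap.toMatrix b b (LinearMap.mulLeft K M) = M ⊗ₖ (1 : Matrix (Fin n) (Fin n) K) := by
    ext ⟨i, j⟩ ⟨i', j'⟩
    have hr : ∀ N : Matrix (Fin n) (Fin n) K, b.repr N (i, j) = N i j := fun N => by
      simp [b, Matrix.stdBasis]
    rw [LinearMap.toMatrix_apply, LinearMap.mulLeft_apply, hr, Matrix.stdBasis_eq_single,
      Matrix.kroneckerMap_apply, Matrix.one_apply]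
    by_cases h1 : j = j'
    · subst h1; simp [Matrix.mul_apply, Matrix.single_apply]
    · simp [Matrix.mul_apply, Matrix.single_apply, Ne.symm h1, h1]
  rw [h, charpoly_kronecker_one, Fintype.card_fin]

variable {A : Type v} [Ring A] [Algebra k A] [FiniteDimensional k A]

/-- Regular and reduced characteristic polynomials. -/
theorem charpoly_mulLeft_map {K : Type w} [Field K] [Algebra k K] {n : ℕ}
    (φ : K ⊗[k] A ≃ₐ[K] Matrix (Fin n) (Fin n) K) (a : A) :
    (LinearMap.mulLeft k a).charpoly.map (algebraMap k K) = (φ (1 ⊗ₜ a)).charpoly ^ n := by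
  rw [← charpoly_mulLeft_matrix, ← LinearMap.charpoly_baseChange]
  have : LinearMap.mulLeft K (φ (1 ⊗ₜ[k] a)) =
      φ.toLinearEquiv.conj ((LinearMap.mulLeft k a).baseChange K) := by
    refine LinearMap.ext fun M => ?_
    obtain ⟨z, rfl⟩ := φ.surjective M
    rw [LinearEquiv.conj_apply, LinearMap.comp_apply, LinearMap.comp_apply, LinearMap.mulLeft_apply,
      ← map_mul]
    simp only [LinearEquiv.coe_coe, AlgEquiv.toLinearEquiv_apply]
    congr 1
    rw [show φ.toLinearEquiv.symm (φ z) = z from φ.symm_apply_apply z]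
    induction z with
    | zero => simp
    | add p q hp hq => rw [mul_add, hp, hq, map_add]
    | tmul c y => simp
  rw [this, LinearEquiv.charpoly_conj]

theorem card_eq_finrank {K : Type w} [Field K] [Algebra k K] {n : ℕ}
    (φ : K ⊗[k] A ≃ₐ[K] Matrix (Fin n) (Fin n) K) : Module.finrank k A = n ^ 2 := by
  rw [← Module.finrank_baseChange (R := K) (M' := A), φ.toLinearEquiv.finrank_eq, finrank_matrix_self]

theorem isUnit_iff_det {K : Type w} [Field K] [Algebra k K] {n : ℕ}
    (φ : K ⊗[k] A ≃ₐ[K] Matrix (Fin n) (Fin n) K) (a : A) :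
    IsUnit a ↔ (φ (1 ⊗ₜ[k] a)).det ≠ 0 := by
  rw [← isUnit_iff_ne_zero, ← Matrix.isUnit_iff_isUnit_det, isUnit_map_iff φ]
  refine ⟨fun h => h.map (Algebra.TensorProduct.includeRight : A →ₐ[k] K ⊗[k] A), fun h => ?_⟩
  have hinj : Function.Injective (LinearMap.mulLeft k a) := (injective_iff_map_eq_zero _).2 fun y hy => by
    have h0 : ((1 : K) ⊗ₜ[k] a) * (1 ⊗ₜ[k] y) = 0 := by
      rw [Algebra.TensorProduct.tmul_mul_tmul, one_mul, show a * y = 0 from hy, TensorProduct.tmul_zero]
    exact Algebra.TensorProduct.includeRight_injective (FaithfulSMul.algebraMap_injective k K)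
      ((h.mul_right_eq_zero.1 h0).trans (map_zero (Algebra.TensorProduct.includeRight : A →ₐ[k] K ⊗[k] A)).symm)
  obtain ⟨b, hb⟩ := (LinearMap.injective_iff_surjective.1 hinj) 1
  exact isUnit_iff_exists.2 ⟨b, hb, hinj (by simp [← mul_assoc, show a * b = 1 from hb])⟩

end CSALib

namespace CSALib

variable {k : Type u} [Field k] {A : Type v} [Ring A] [Algebra k A] [FiniteDimensional k A]

theorem norm_map_eq {K : Type w} [Field K] [Algebra k K] {n : ℕ}
    (φ : K ⊗[k] A ≃ₐ[K] Matrix (Fin n) (Fin n) K) (a : A) :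
    algebraMap k K (Algebra.norm k a) = (φ (1 ⊗ₜ a)).det ^ n := by
  have h := congrArg (fun p => Polynomial.coeff p 0) (charpoly_mulLeft_map φ a)
  simp only [Polynomial.coeff_zero_eq_eval_zero, Polynomial.eval_pow] at h
  rw [← Polynomial.coeff_zero_eq_eval_zero, ← Polynomial.coeff_zero_eq_eval_zero,
    Polynomial.coeff_map] at h
  rw [show Algebra.norm k a = LinearMap.det (LinearMap.mulLeft k a) from rfl,
    LinearMap.det_eq_sign_charpoly_coeff, map_mul, map_pow, map_neg, map_one, h, card_eq_finrank φ,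
    Matrix.det_eq_sign_charpoly_coeff, mul_pow, ← pow_mul, sq, Fintype.card_fin]

theorem trace_map_eq {K : Type w} [Field K] [Algebra k K] {n : ℕ}
    (φ : K ⊗[k] A ≃ₐ[K] Matrix (Fin n) (Fin n) K) (a : A) :
    algebraMap k K (LinearMap.trace k A (LinearMap.mulLeft k a)) = n • (φ (1 ⊗ₜ a)).trace := by
  have h := congrArg Polynomial.nextCoeff (charpoly_mulLeft_map φ a)
  rw [Polynomial.nextCoeff_map (algebraMap k K).injective,
    Polynomial.Monic.nextCoeff_pow (Matrix.charpoly_monic _)] at h
  rw [Matrix.trace_eq_neg_charpoly_nextCoeff, smul_neg, ← h, ← map_neg]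
  congr 1
  rw [LinearMap.trace_eq_matrix_trace k (Module.finBasis k A), Matrix.trace_eq_neg_charpoly_nextCoeff,
    LinearMap.charpoly_toMatrix]

/-- Reduced characteristic polynomial of an element of a maximal subfield. -/
theorem charpoly_of_subfield {K : Type w} [Field K] [Algebra k K] {n : ℕ} (hn : 0 < n)
    (φ : K ⊗[k] A ≃ₐ[K] Matrix (Fin n) (Fin n) K) {L : Type*} [Field L] [Algebra k L]
    [FiniteDimensional k L] (hL : Module.finrank k L = n) (ι : L →ₐ[k] A) (x : L) :
    (φ (1 ⊗ₜ ι x)).charpoly = (Algebra.lmul k L x).charpoly.map (algebraMap k K) := by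
  let _ : Module L A := Module.compHom A ι.toRingHom
  have : IsScalarTower k L A := ⟨fun r l v => by
    change ι (r • l) * v = r • (ι l * v)
    rw [map_smul, smul_mul_assoc]⟩
  have : FiniteDimensional L A := Module.Finite.of_restrictScalars_finite k L A
  have hV : Module.finrank L A = n := by
    have := Module.finrank_mul_finrank k L A
    rw [hL, card_eq_finrank φ, sq] at this
    exact Nat.eq_of_mul_eq_mul_left hn this
  have h := charpoly_smul_tower (k := k) L x (LinearMap.mulLeft k (ι x)) (V := A) fun v => rfl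
  have h2 := charpoly_mulLeft_map φ (ι x)
  rw [h, hV, Polynomial.map_pow] at h2
  have hm1 : ((Algebra.lmul k L x).charpoly.map (algebraMap k K)).Monic :=
    (LinearMap.charpoly_monic _).map _
  have hm2 := Matrix.charpoly_monic (φ (1 ⊗ₜ[k] ι x))
  refine Polynomial.eq_of_monic_of_associated hm2 hm1 (associated_of_dvd_dvd ?_ ?_)
  · exact (IsIntegrallyClosed.pow_dvd_pow_iff hn.ne').1 (by rw [h2])
  · exact (IsIntegrallyClosed.pow_dvd_pow_iff hn.ne').1 (by rw [h2])

theorem det_trace_of_subfield {K : Type w} [Field K] [Algebra k K] {n : ℕ} (hn : 0 < n)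
    (φ : K ⊗[k] A ≃ₐ[K] Matrix (Fin n) (Fin n) K) {L : Type*} [Field L] [Algebra k L]
    [FiniteDimensional k L] (hL : Module.finrank k L = n) (ι : L →ₐ[k] A) (x : L) :
    (φ (1 ⊗ₜ ι x)).det = algebraMap k K (Algebra.norm k x) ∧
      (φ (1 ⊗ₜ ι x)).trace = algebraMap k K (Algebra.trace k L x) := by
  have h := charpoly_of_subfield hn φ hL ι x
  constructor
  · rw [Matrix.det_eq_sign_charpoly_coeff, h, Polynomial.coeff_map, Fintype.card_fin,
      show Algebra.norm k x = LinearMap.det (Algebra.lmul k L x) from rfl,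
      LinearMap.det_eq_sign_charpoly_coeff, map_mul, map_pow, map_neg, map_one, hL]
  · rw [Matrix.trace_eq_neg_charpoly_nextCoeff, h, Polynomial.nextCoeff_map (algebraMap k K).injective,
      ← map_neg]
    congr 1
    rw [Algebra.trace_apply, LinearMap.trace_eq_matrix_trace k (Module.finBasis k L),
      Matrix.trace_eq_neg_charpoly_nextCoeff, LinearMap.charpoly_toMatrix]

end CSALib
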