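import Groth.Agent.CSALib.Basic

/-!
# Modules over finite-dimensional simple algebras, Skolem–Noether, double centralizer
-/

set_option autoImplicit false

universe u v w x

open scoped TensorProduct
open MulOpposite

namespace CSALib

variable {k : Type u} [Field k]

section Modules

variable (R : Type v) [Ring R] [Algebra k R] [FiniteDimensional k R] [IsSimpleRing R]

theorem exists_simple_ideal : ∃ S : Ideal R, IsSimpleModule R S ∧ 0 < Module.finrank k S := by
  have := IsArtinianRing.of_finite k R
  obtain ⟨I, hI⟩ := IsAtomic.exists_atom (Ideal R)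
  have hs : IsSimpleModule R I := isSimpleModule_iff_isAtom.2 hI
  have : Nontrivial I := IsSimpleModule.nontrivial R I
  have : FiniteDimensional k I := FiniteDimensional.finiteDimensional_submodule (I.restrictScalars k)
  exact ⟨I, hs, Module.finrank_pos⟩

/-- Every finite module is a power of the simple module. -/
theorem exists_fun (S : Ideal R) [IsSimpleModule R S] (M : Type w) [AddCommGroup M] [Module k M]
    [Module R M] [IsScalarTower k R M] [FiniteDimensional k M] :
    ∃ a : ℕ, Nonempty (M ≃ₗ[R] Fin a → S) := by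
  have := IsArtinianRing.of_finite k R
  have : Module.Finite R M := Module.Finite.of_restrictScalars_finite k R M
  have htype : IsIsotypicOfType R M S := fun m hm => by
    obtain ⟨J, ⟨e⟩⟩ := IsSemisimpleRing.exists_linearEquiv_ideal_of_isSimpleModule R m
    have := IsSimpleModule.congr e.symm
    obtain ⟨e'⟩ := IsSimpleRing.isIsotypic R R S J
    exact ⟨e.trans e'⟩
  exact htype.linearEquiv_fun

theorem finrank_fun_eq {S : Ideal R} {M : Type w} [AddCommGroup M] [Module k M] [Module R M]
    [IsScalarTower k R M] {a : ℕ} (e : M ≃ₗ[R] Fin a → S) :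
    Module.finrank k M = a * Module.finrank k S := by
  have : FiniteDimensional k S := FiniteDimensional.finiteDimensional_submodule (S.restrictScalars k)
  rw [(e.restrictScalars k).finrank_eq, Module.finrank_pi_fintype, Finset.sum_const,
    Finset.card_univ, Fintype.card_fin, smul_eq_mul]

theorem nonempty_linearEquiv_of_finrank_eq (M : Type w) (N : Type w) [AddCommGroup M] [Module k M]
    [Module R M] [IsScalarTower k R M] [FiniteDimensional k M] [AddCommGroup N] [Module k N]
    [Module R N] [IsScalarTower k R N] [FiniteDimensional k N]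
    (h : Module.finrank k M = Module.finrank k N) : Nonempty (M ≃ₗ[R] N) := by
  obtain ⟨S, hS, hpos⟩ := exists_simple_ideal (k := k) R
  obtain ⟨a, ⟨e⟩⟩ := exists_fun (k := k) R S M
  obtain ⟨b, ⟨e'⟩⟩ := exists_fun (k := k) R S N
  rw [finrank_fun_eq R e, finrank_fun_eq R e'] at h
  obtain rfl := Nat.eq_of_mul_eq_mul_right hpos h
  exact ⟨e.trans e'.symm⟩

end Modules

/-- A module given by a representation. -/
def ModOf {R : Type v} {V : Type w} [Ring R] [Algebra k R] [AddCommGroup V] [Module k V]
    (_ρ : R →ₐ[k] Module.End k V) : Type w := V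

namespace ModOf

variable {R : Type v} {V : Type w} [Ring R] [Algebra k R] [AddCommGroup V] [Module k V]
  (ρ : R →ₐ[k] Module.End k V)

instance : AddCommGroup (ModOf ρ) := inferInstanceAs (AddCommGroup V)
instance : Module k (ModOf ρ) := inferInstanceAs (Module k V)
instance [FiniteDimensional k V] : FiniteDimensional k (ModOf ρ) :=
  inferInstanceAs (FiniteDimensional k V)
instance instModuleRep : Module R (ModOf ρ) := Module.compHom V (ρ : R →+* Module.End k V)

/-- The element of the module given by a vector. -/
def mk (v : V) : ModOf ρ := v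

variable {ρ} in
/-- The vector underlying an element. -/
def val (x : ModOf ρ) : V := x

theorem smul_val (r : R) (x : ModOf ρ) : (r • x).val = ρ r x.val := rfl

theorem smul_mk (r : R) (v : V) : r • mk ρ v = mk ρ (ρ r v) := rfl

instance isScalarTower : IsScalarTower k R (ModOf ρ) := ⟨fun c r x => by
  change ρ (c • r) x.val = c • (ρ r x.val)
  rw [map_smul]; rfl⟩

end ModOf

section SkolemNoether

variable {A : Type v} [Ring A] [Algebra k A] [Algebra.IsCentral k A] [IsSimpleRing A]
  [FiniteDimensional k A] {B : Type w} [Ring B] [Algebra k B]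

/-- The bimodule representation. -/
noncomputable def biRep (f : B →ₐ[k] A) : Aᵐᵒᵖ ⊗[k] B →ₐ[k] Module.End k A :=
  ((AlgHom.mulLeftRight k A).comp (Algebra.TensorProduct.map f (AlgHom.id k Aᵐᵒᵖ))).comp
    (Algebra.TensorProduct.comm k Aᵐᵒᵖ B).toAlgHom

omit [Algebra.IsCentral k A] [IsSimpleRing A] [FiniteDimensional k A] in
theorem biRep_tmul (f : B →ₐ[k] A) (a : Aᵐᵒᵖ) (b : B) (x : A) :
    biRep f (a ⊗ₜ b) x = f b * x * a.unop := by simp [biRep]

variable [IsSimpleRing B]

/-- **Skolem–Noether**. -/
theorem skolemNoether (f g : B →ₐ[k] A) :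
    ∃ u : Aˣ, ∀ b, g b = (u : A) * f b * (u⁻¹ : Aˣ) := by
  have : FiniteDimensional k B :=
    FiniteDimensional.of_injective f.toLinearMap (injective_algHom f)
  obtain ⟨e⟩ := nonempty_linearEquiv_of_finrank_eq (k := k) (Aᵐᵒᵖ ⊗[k] B)
    (ModOf (biRep f)) (ModOf (biRep g)) (by rfl)
  let h : A → A := fun x => (e (ModOf.mk _ x)).val
  have hh : ∀ a b x, h (f b * x * a) = g b * h x * a := fun a b x => by
    have := congrArg ModOf.val (map_smul e (op a ⊗ₜ[k] b) (ModOf.mk (biRep f) x))
    rw [ModOf.smul_mk, ModOf.smul_val, biRep_tmul, biRep_tmul] at this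
    exact this
  have h1 : ∀ a, h a = h 1 * a := fun a => by simpa using hh a 1 1
  have h2 : ∀ b, g b * h 1 = h 1 * f b := fun b => by
    rw [← h1]
    simpa using (hh 1 b 1).symm
  obtain ⟨w, hw⟩ := e.surjective (ModOf.mk (biRep g) 1)
  have hw' : h 1 * w.val = 1 := (h1 w.val).symm.trans (congrArg ModOf.val hw)
  have hinj : Function.Injective (LinearMap.mulLeft k (h 1)) :=
    LinearMap.injective_iff_surjective.2 fun y => ⟨w.val * y, by simp [← mul_assoc, hw']⟩
  have hw'' : w.val * h 1 = 1 := hinj (by simp [← mul_assoc, hw'])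
  refine ⟨⟨h 1, w.val, hw', hw''⟩, fun b => ?_⟩
  change g b = h 1 * f b * w.val
  rw [← h2, mul_assoc, hw', mul_one]

variable (f : B →ₐ[k] A)

/-- The centralizer is the endomorphism algebra of the bimodule. -/
noncomputable def centralizerEquiv :
    Subalgebra.centralizer k (f.range : Set A) ≃ₐ[k] Module.End (Aᵐᵒᵖ ⊗[k] B) (ModOf (biRep f)) :=
  AlgEquiv.ofBijective
    { toFun := fun c =>
        { toFun := fun x => ModOf.mk _ ((c : A) * x.val)
          map_add' := fun x y => mul_add (c : A) x.val y.val
          map_smul' := fun r x => by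
            change (c : A) * biRep f r x.val = biRep f r ((c : A) * x.val)
            induction r with
            | zero => simp
            | add p q hp hq =>
              rw [map_add, LinearMap.add_apply, LinearMap.add_apply, mul_add, hp, hq]
            | tmul a b =>
              rw [biRep_tmul, biRep_tmul]
              have hc : f b * (c : A) = (c : A) * f b :=
                (Subalgebra.mem_centralizer_iff k).1 c.2 _ ⟨b, rfl⟩
              simp only [← mul_assoc]
              rw [hc] }
      map_one' := LinearMap.ext fun x => one_mul x.val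
      map_mul' := fun c d => LinearMap.ext fun x => mul_assoc (c : A) (d : A) x.val
      map_zero' := LinearMap.ext fun x => zero_mul x.val
      map_add' := fun c d => LinearMap.ext fun x => add_mul (c : A) (d : A) x.val
      commutes' := fun r => LinearMap.ext fun x => (Algebra.smul_def r x.val).symm } (by
    refine ⟨fun c d h => ?_, fun φ => ?_⟩
    · have := congrArg ModOf.val (LinearMap.congr_fun h (ModOf.mk (biRep f) 1))
      change (c : A) * 1 = (d : A) * 1 at this
      exact Subtype.ext (by simpa using this)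
    · let F : A → A := fun x => (φ (ModOf.mk _ x)).val
      have hF : ∀ a b x, F (f b * x * a) = f b * F x * a := fun a b x => by
        have := congrArg ModOf.val (map_smul φ (op a ⊗ₜ[k] b) (ModOf.mk (biRep f) x))
        rw [ModOf.smul_mk, ModOf.smul_val, biRep_tmul, biRep_tmul] at this
        exact this
      have h1 : ∀ a, F a = F 1 * a := fun a => by simpa using hF a 1 1
      refine ⟨⟨F 1, (Subalgebra.mem_centralizer_iff k).2 ?_⟩,
        LinearMap.ext fun x => (h1 x.val).symm⟩
      rintro _ ⟨b, rfl⟩
      refine (?_ : f b * F 1 = F 1 * f b)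
      rw [← h1]
      simpa using (hF 1 b 1).symm)

theorem centralizer_simple_and_finrank :
    IsSimpleRing (Subalgebra.centralizer k (f.range : Set A)) ∧
      Module.finrank k B * Module.finrank k (Subalgebra.centralizer k (f.range : Set A)) =
        Module.finrank k A := by
  have : FiniteDimensional k B :=
    FiniteDimensional.of_injective f.toLinearMap (injective_algHom f)
  obtain ⟨S, hS, hpos⟩ := exists_simple_ideal (k := k) (Aᵐᵒᵖ ⊗[k] B)
  obtain ⟨a, ⟨e⟩⟩ := exists_fun (k := k) (Aᵐᵒᵖ ⊗[k] B) S (ModOf (biRep f))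
  obtain ⟨r, ⟨e'⟩⟩ := exists_fun (k := k) (Aᵐᵒᵖ ⊗[k] B) S (Aᵐᵒᵖ ⊗[k] B)
  classical
  let E₁ : Subalgebra.centralizer k (f.range : Set A) ≃ₐ[k]
      Matrix (Fin a) (Fin a) (Module.End (Aᵐᵒᵖ ⊗[k] B) S) :=
    (centralizerEquiv f).trans ((e.conjAlgEquiv k).trans (endVecAlgEquivMatrixEnd ..))
  let E₂ : (Aᵐᵒᵖ ⊗[k] B)ᵐᵒᵖ ≃ₐ[k] Matrix (Fin r) (Fin r) (Module.End (Aᵐᵒᵖ ⊗[k] B) S) :=
    (AlgEquiv.moduleEndSelf k).trans ((e'.conjAlgEquiv k).trans (endVecAlgEquivMatrixEnd ..))
  have : FiniteDimensional k S := FiniteDimensional.finiteDimensional_submodule (S.restrictScalars k)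
  have : Module.Free k (Module.End (Aᵐᵒᵖ ⊗[k] B) S) :=
    Module.Free.of_basis (Module.Basis.ofVectorSpace k (Module.End (Aᵐᵒᵖ ⊗[k] B) S))
  have d₁ := E₁.toLinearEquiv.finrank_eq
  have d₂ := E₂.toLinearEquiv.finrank_eq
  rw [Module.finrank_matrix, Fintype.card_fin] at d₁ d₂
  have dA : Module.finrank k (ModOf (biRep f)) = a * Module.finrank k S := finrank_fun_eq _ e
  replace dA : Module.finrank k A = a * Module.finrank k S := dA
  have dR := finrank_fun_eq (k := k) _ e'
  have dR' : Module.finrank k (Aᵐᵒᵖ ⊗[k] B)ᵐᵒᵖ = Module.finrank k A * Module.finrank k B := by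
    rw [← (opLinearEquiv k).finrank_eq, Module.finrank_tensorProduct,
      ← (opLinearEquiv k : A ≃ₗ[k] Aᵐᵒᵖ).finrank_eq]
  have dR'' : Module.finrank k (Aᵐᵒᵖ ⊗[k] B) = Module.finrank k A * Module.finrank k B := by
    rw [← dR', ← (opLinearEquiv k).finrank_eq]
  rw [dR'] at d₂
  rw [dR''] at dR
  have hA : 0 < Module.finrank k A := Module.finrank_pos
  have ha : a ≠ 0 := by rintro rfl; simp at dA; omega
  have key : r = a * Module.finrank k B := by
    refine Nat.eq_of_mul_eq_mul_right hpos ?_
    rw [← dR, dA]; ring
  constructor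
  · have : NeZero a := ⟨ha⟩
    have : Nontrivial S := IsSimpleModule.nontrivial (Aᵐᵒᵖ ⊗[k] B) S
    have : IsSimpleRing (Module.End (Aᵐᵒᵖ ⊗[k] B) S) := by
      refine IsSimpleRing.of_eq_bot_or_eq_top fun I => or_iff_not_imp_left.2 fun hI => ?_
      obtain ⟨φ, hφ, hφ0⟩ : ∃ φ ∈ I, φ ≠ 0 := by
        by_contra h
        push Not at h
        exact hI (eq_bot_iff.2 fun z hz => (h z hz : z = 0))
      have hb : Function.Bijective φ := (LinearMap.bijective_or_eq_zero φ).resolve_right hφ0
      refine (TwoSidedIdeal.one_mem_iff I).1 ?_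
      obtain ⟨u, hu⟩ := (Module.End.isUnit_iff φ).2 hb
      rw [← Units.inv_mul u, hu]
      exact I.mul_mem_left _ _ hφ
    exact IsSimpleRing.of_ringEquiv (R := Matrix (Fin a) (Fin a) (Module.End (Aᵐᵒᵖ ⊗[k] B) S)) E₁.symm.toRingEquiv inferInstance
  · rw [d₁]
    refine Nat.eq_of_mul_eq_mul_left (Nat.pos_of_ne_zero (mul_ne_zero ha ha)) ?_
    have hB : 0 < Module.finrank k B := Module.finrank_pos
    refine Nat.eq_of_mul_eq_mul_left hB ?_
    rw [key] at d₂
    linear_combination (a * a) * d₂.symm

theorem centralizer_centralizer :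
    Subalgebra.centralizer k (Subalgebra.centralizer k (f.range : Set A) : Set A) = f.range := by
  obtain ⟨hC, hd⟩ := centralizer_simple_and_finrank f
  obtain ⟨-, hd'⟩ := centralizer_simple_and_finrank (Subalgebra.centralizer k (f.range : Set A)).val
  rw [show ((Subalgebra.centralizer k (f.range : Set A)).val.range : Set A) =
    (Subalgebra.centralizer k (f.range : Set A) : Set A) by simp] at hd'
  have hle : f.range ≤
      Subalgebra.centralizer k (Subalgebra.centralizer k (f.range : Set A) : Set A) := fun x hx =>
    (Subalgebra.mem_centralizer_iff k).2 fun c hc => ((Subalgebra.mem_centralizer_iff k).1 hc x hx).symm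
  refine (Subalgebra.toSubmodule_injective (Submodule.eq_of_le_of_finrank_eq
    (show Subalgebra.toSubmodule f.range ≤ _ from hle) ?_)).symm
  have : Nontrivial (Subalgebra.centralizer k (f.range : Set A)) := inferInstance
  refine Nat.eq_of_mul_eq_mul_left (Module.finrank_pos (R := k)
    (M := Subalgebra.centralizer k (f.range : Set A))) ?_
  have : Module.finrank k f.range = Module.finrank k B :=
    (LinearEquiv.ofInjective f.toLinearMap (injective_algHom f)).finrank_eq.symm
  rw [Subalgebra.finrank_toSubmodule, Subalgebra.finrank_toSubmodule, this, hd', mul_comm, hd]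

end SkolemNoether

section Matrix

variable {D : Type v} [DivisionRing D] [Algebra k D] [FiniteDimensional k D] {n : ℕ}

/-- Every nonzero left ideal of `M_n(D)` has dimension at least `n · dim D`. -/
theorem le_finrank_ideal (I : Ideal (Matrix (Fin n) (Fin n) D)) (hI : I ≠ ⊥) :
    n * Module.finrank k D ≤ Module.finrank k I := by
  obtain ⟨x, hxI, hx⟩ := (Submodule.ne_bot_iff _).1 hI
  obtain ⟨i₀, j₀, hij⟩ : ∃ i j, x i j ≠ 0 := by
    by_contra h
    push Not at h
    exact hx (Matrix.ext h)
  have : FiniteDimensional k I := FiniteDimensional.finiteDimensional_submodule (I.restrictScalars k)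
  let φ : (Fin n → D) →ₗ[k] I :=
    { toFun := fun v => ⟨∑ i, Matrix.single i i₀ (v i) * x,
        Submodule.sum_mem _ fun i _ => I.mul_mem_left _ hxI⟩
      map_add' := fun v w => Subtype.ext (by
        simp [Matrix.single_add, add_mul, Finset.sum_add_distrib])
      map_smul' := fun c v => Subtype.ext (by
        simp [← Matrix.smul_single, Finset.smul_sum]) }
  have hφ : Function.Injective φ := (injective_iff_map_eq_zero φ).2 fun v hv => funext fun i => by
    have h := congrFun (congrFun (congrArg Subtype.val hv) i) j₀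
    simp [φ, Matrix.sum_apply, Matrix.mul_apply, Matrix.single_apply, ite_mul, Finset.sum_ite_eq',
      ite_and] at h
    exact h.resolve_right hij
  have := LinearMap.finrank_le_finrank_of_injective hφ
  simpa [Module.finrank_pi_fintype] using this

/-- The left ideal of matrices supported in one column. -/
theorem exists_ideal_finrank [NeZero n] :
    ∃ I : Ideal (Matrix (Fin n) (Fin n) D), Module.finrank k I = n * Module.finrank k D := by
  let I : Ideal (Matrix (Fin n) (Fin n) D) :=
    { carrier := {M | ∀ i j, j ≠ 0 → M i j = 0}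
      zero_mem' := fun i j _ => rfl
      add_mem' := fun {M N} hM hN i j hj => by simp [hM i j hj, hN i j hj]
      smul_mem' := fun M N hN i j hj => by
        simp [Matrix.mul_apply, fun l => hN l j hj] }
  refine ⟨I, ?_⟩
  let e : I ≃ₗ[k] (Fin n → D) :=
    { toFun := fun M i => (M : Matrix (Fin n) (Fin n) D) i 0
      map_add' := fun _ _ => rfl
      map_smul' := fun _ _ => rfl
      invFun := fun v => ⟨Matrix.of fun i j => if j = 0 then v i else 0, fun i j hj => by simp [hj]⟩
      left_inv := fun M => Subtype.ext (Matrix.ext fun i j => by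
        by_cases hj : j = 0
        · simp [hj]
        · simp [hj, M.2 i j hj])
      right_inv := fun v => funext fun i => by simp }
  rw [e.finrank_eq]
  simp [Module.finrank_pi_fintype]

theorem exists_simple_matrix [NeZero n] {R : Type w} [Ring R] [Algebra k R] [FiniteDimensional k R]
    [IsSimpleRing R] (e : R ≃ₐ[k] Matrix (Fin n) (Fin n) D) :
    ∃ S : Ideal R, IsSimpleModule R S ∧ Module.finrank k S = n * Module.finrank k D := by
  obtain ⟨S, hS, hpos⟩ := exists_simple_ideal (k := k) R
  refine ⟨S, hS, le_antisymm ?_ ?_⟩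
  · obtain ⟨I, hI⟩ := exists_ideal_finrank (k := k) (D := D) (n := n)
    let J : Ideal R := Ideal.comap e.toRingEquiv I
    let eJ : J ≃ₗ[k] I :=
      { toFun := fun x => ⟨e x, x.2⟩
        map_add' := fun x y => Subtype.ext (map_add e (x : R) y)
        map_smul' := fun c x => Subtype.ext (map_smul e c (x : R))
        invFun := fun y => ⟨e.symm y, by
          change e (e.symm y) ∈ I
          rw [e.apply_symm_apply]; exact y.2⟩
        left_inv := fun x => Subtype.ext (e.symm_apply_apply x)
        right_inv := fun y => Subtype.ext (e.apply_symm_apply y) }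
    have : FiniteDimensional k J := FiniteDimensional.finiteDimensional_submodule (J.restrictScalars k)
    obtain ⟨a, ⟨ea⟩⟩ := exists_fun (k := k) R S J
    have ha := finrank_fun_eq (k := k) R ea
    rw [eJ.finrank_eq, hI] at ha
    have hD : 0 < n * Module.finrank k D := Nat.mul_pos (NeZero.pos n) Module.finrank_pos
    rcases a with _ | a
    · omega
    · rw [ha]; exact Nat.le_mul_of_pos_left _ (Nat.succ_pos a)
  · let I : Ideal (Matrix (Fin n) (Fin n) D) := Ideal.comap e.symm.toRingEquiv S
    have hI : I ≠ ⊥ := fun h => by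
      obtain ⟨s, hs, hs0⟩ := (Submodule.ne_bot_iff _).1 (isSimpleModule_iff_isAtom.1 hS).1
      have : e s ∈ I := by
        change e.symm (e s) ∈ S
        rwa [e.symm_apply_apply]
      rw [h, Submodule.mem_bot] at this
      exact hs0 (e.injective (this.trans (map_zero e).symm))
    let eI : I ≃ₗ[k] S :=
      { toFun := fun x => ⟨e.symm x, x.2⟩
        map_add' := fun x y => Subtype.ext (map_add e.symm (x : Matrix _ _ D) y)
        map_smul' := fun c x => Subtype.ext (map_smul e.symm c (x : Matrix _ _ D))
        invFun := fun y => ⟨e y, by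
          change e.symm (e y) ∈ S
          rw [e.symm_apply_apply]; exact y.2⟩
        left_inv := fun x => Subtype.ext (e.apply_symm_apply x)
        right_inv := fun y => Subtype.ext (e.symm_apply_apply y) }
    rw [← eI.finrank_eq]
    exact le_finrank_ideal I hI

/-- Every finite module over `M_n(D)` has dimension a multiple of `n · dim D`. -/
theorem dvd_finrank_module [NeZero n] {R : Type w} [Ring R] [Algebra k R] [FiniteDimensional k R]
    [IsSimpleRing R] (e : R ≃ₐ[k] Matrix (Fin n) (Fin n) D)
    (M : Type x) [AddCommGroup M] [Module k M] [Module R M] [IsScalarTower k R M]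
    [FiniteDimensional k M] : n * Module.finrank k D ∣ Module.finrank k M := by
  obtain ⟨S, hS', hS⟩ := exists_simple_matrix e
  obtain ⟨a, ⟨ea⟩⟩ := exists_fun (k := k) R S M
  exact ⟨a, by rw [finrank_fun_eq R ea, hS, mul_comm]⟩

theorem size_eq {m : ℕ} [NeZero n] [NeZero m] {D' : Type w} [DivisionRing D'] [Algebra k D']
    [FiniteDimensional k D'] (e : Matrix (Fin n) (Fin n) D ≃ₐ[k] Matrix (Fin m) (Fin m) D') :
    n = m := by
  obtain ⟨I, hI⟩ := exists_ideal_finrank (k := k) (D := D) (n := n)
  have : FiniteDimensional k I := FiniteDimensional.finiteDimensional_submodule (I.restrictScalars k)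
  have : NeZero n := inferInstance
  have h1 := dvd_finrank_module e I
  rw [hI] at h1
  obtain ⟨J, hJ⟩ := exists_ideal_finrank (k := k) (D := D') (n := m)
  have : FiniteDimensional k J := FiniteDimensional.finiteDimensional_submodule (J.restrictScalars k)
  have h2 := dvd_finrank_module e.symm J
  rw [hJ] at h2
  have h3 := Nat.dvd_antisymm h1 h2
  have h4 := e.toLinearEquiv.finrank_eq
  rw [Module.finrank_matrix, Module.finrank_matrix, Fintype.card_fin, Fintype.card_fin, mul_assoc,
    mul_assoc, h3] at h4
  exact Nat.eq_of_mul_eq_mul_right (Nat.mul_pos (NeZero.pos n) Module.finrank_pos) h4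

end Matrix

end CSALib
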