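import Groth.Agent.CSALib.Modules
import Groth.Prelude.Def_GSzCSA

/-!
# Splitting fields
-/

set_option autoImplicit false

universe u v w x y

open scoped TensorProduct

namespace CSALib

variable {k : Type u} [Field k]

section Wedderburn

/-- An algebra map between algebras of equal dimension, the source simple, is an isomorphism. -/
noncomputable def equivOfHom {A : Type v} {B : Type w} [Ring A] [Algebra k A] [IsSimpleRing A]
    [FiniteDimensional k A] [Ring B] [Algebra k B] [Nontrivial B] [FiniteDimensional k B]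
    (f : A →ₐ[k] B) (h : Module.finrank k A = Module.finrank k B) : A ≃ₐ[k] B :=
  AlgEquiv.ofBijective f (bijective_algHom f h)

theorem central_of_matrix {D : Type v} [Ring D] [Algebra k D] {n : Type x} [Fintype n]
    [DecidableEq n] [Nonempty n] [Algebra.IsCentral k (Matrix n n D)] : Algebra.IsCentral k D := by
  refine ⟨fun z hz => ?_⟩
  have : Matrix.scalar n z ∈ Subalgebra.center k (Matrix n n D) :=
    Subalgebra.mem_center_iff.2 fun M => (Matrix.scalar_commute z
      (fun y => (Subalgebra.mem_center_iff.1 hz y).symm) M).eq.symm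
  obtain ⟨r, hr⟩ := Algebra.mem_bot.1 (Algebra.IsCentral.out this)
  exact Algebra.mem_bot.2 ⟨r, (Matrix.scalar_inj (n := n)).1 hr⟩

theorem wedderburn (A : Type v) [Ring A] [Algebra k A] [Algebra.IsCentral k A] [IsSimpleRing A]
    [FiniteDimensional k A] :
    ∃ (m : ℕ) (D : Type v) (_ : DivisionRing D) (_ : Algebra k D), 0 < m ∧ Algebra.IsCentral k D ∧
      FiniteDimensional k D ∧ Nonempty (A ≃ₐ[k] Matrix (Fin m) (Fin m) D) := by
  have := IsArtinianRing.of_finite k A
  obtain ⟨m, hm, D, _, _, hD, ⟨e⟩⟩ := IsSimpleRing.exists_algEquiv_matrix_divisionRing_finite k A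
  have := central_of_equiv e
  exact ⟨m, D, _, _, NeZero.pos m, central_of_matrix (n := Fin m), hD, ⟨e⟩⟩

theorem finrank_matrix_fin {D : Type v} [DivisionRing D] [Algebra k D] (m : ℕ) :
    Module.finrank k (Matrix (Fin m) (Fin m) D) = m ^ 2 * Module.finrank k D := by
  rw [Module.finrank_matrix, Fintype.card_fin, sq]

theorem finrank_matrix_self (n : ℕ) (K : Type v) [Field K] :
    Module.finrank K (Matrix (Fin n) (Fin n) K) = n ^ 2 := by
  rw [Module.finrank_matrix, Fintype.card_fin, Module.finrank_self, mul_one, sq]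

end Wedderburn

section SepClosed

theorem finrank_eq_one_of_isSepClosed [IsSepClosed k] (D : Type v) [DivisionRing D] [Algebra k D]
    [Algebra.IsCentral k D] [FiniteDimensional k D] : Module.finrank k D = 1 := by
  by_contra h
  have hne : (⊥ : Subalgebra k D) ≠ ⊤ := fun hb => h (Subalgebra.bot_eq_top_iff_finrank_eq_one.1 hb)
  obtain ⟨x, hx, hsep⟩ := JacobsonNoether.exists_separable_and_not_isCentral' hne
  refine hx (minpoly.degree_eq_one_iff.1 ?_)
  exact IsSepClosed.degree_eq_one_of_irreducible k (minpoly.irreducible (IsIntegral.of_finite k x)) hsep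

theorem exists_matrix_of_isSepClosed [IsSepClosed k] (A : Type v) [Ring A] [Algebra k A]
    [Algebra.IsCentral k A] [IsSimpleRing A] [FiniteDimensional k A] :
    ∃ n : ℕ, 0 < n ∧ Nonempty (A ≃ₐ[k] Matrix (Fin n) (Fin n) k) := by
  obtain ⟨m, D, _, _, hm, _, _, ⟨e⟩⟩ := wedderburn (k := k) A
  exact ⟨m, hm, ⟨e.trans (equivOfHom (Algebra.ofId k D)
    (by rw [finrank_eq_one_of_isSepClosed D, Module.finrank_self])).symm.mapMatrix⟩⟩

end SepClosed

section Splits

variable {A : Type v} [Ring A] [Algebra k A]

theorem splits_elim {K : Type w} [Field K] [Algebra k K] (h : Curves.Splits k A K) :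
    ∃ n : ℕ, n ≠ 0 ∧ Module.finrank k A = n ^ 2 ∧ Nonempty (A →ₐ[k] Matrix (Fin n) (Fin n) K) := by
  obtain ⟨n, hn, ⟨e⟩⟩ := h
  refine ⟨n, hn, ?_, ⟨((e.toAlgHom).restrictScalars k).comp Algebra.TensorProduct.includeRight⟩⟩
  rw [← Module.finrank_baseChange (R := K) (M' := A), e.toLinearEquiv.finrank_eq, finrank_matrix_self]

variable [Algebra.IsCentral k A] [IsSimpleRing A] [FiniteDimensional k A]

/-- The isomorphism of a base change with a matrix algebra given by a representation. -/
noncomputable def splitEquiv {K : Type w} [Field K] [Algebra k K] {n : ℕ} [NeZero n]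
    (hd : Module.finrank k A = n ^ 2) (ψ : A →ₐ[k] Matrix (Fin n) (Fin n) K) :
    K ⊗[k] A ≃ₐ[K] Matrix (Fin n) (Fin n) K :=
  equivOfHom (Algebra.TensorProduct.lift (Algebra.ofId K _) ψ fun c a => Algebra.commutes c (ψ a))
    (by rw [Module.finrank_baseChange, hd, finrank_matrix_self])

theorem splitEquiv_tmul {K : Type w} [Field K] [Algebra k K] {n : ℕ} [NeZero n]
    (hd : Module.finrank k A = n ^ 2) (ψ : A →ₐ[k] Matrix (Fin n) (Fin n) K) (c : K) (a : A) :
    splitEquiv hd ψ (c ⊗ₜ a) = c • ψ a := by
  rw [Algebra.smul_def]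
  simp only [splitEquiv, equivOfHom, AlgEquiv.coe_ofBijective]
  exact Algebra.TensorProduct.lift_tmul (Algebra.ofId K (Matrix (Fin n) (Fin n) K)) ψ
    (fun x y => Algebra.commutes (R := K) x (ψ y)) c a

theorem splits_intro {K : Type w} [Field K] [Algebra k K] {ι : Type x} [Fintype ι] [DecidableEq ι]
    [Nonempty ι] (hd : Module.finrank k A = Fintype.card ι ^ 2) (ψ : A →ₐ[k] Matrix ι ι K) :
    Curves.Splits k A K := by
  have : NeZero (Fintype.card ι) := ⟨Fintype.card_ne_zero⟩
  exact ⟨_, Fintype.card_ne_zero, ⟨splitEquiv hd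
    (((Matrix.reindexAlgEquiv K K (Fintype.equivFin ι)).toAlgHom.restrictScalars k).comp ψ)⟩⟩

theorem splits_map {K : Type w} [Field K] [Algebra k K] {L : Type x} [Field L] [Algebra k L]
    (f : K →ₐ[k] L) (h : Curves.Splits k A K) : Curves.Splits k A L := by
  obtain ⟨n, hn, hd, ⟨ψ⟩⟩ := splits_elim h
  have : NeZero n := ⟨hn⟩
  exact ⟨n, hn, ⟨splitEquiv hd (f.mapMatrix.comp ψ)⟩⟩

theorem splits_tensor {K : Type w} [Field K] [Algebra k K] {B : Type x} [Ring B] [Algebra k B]
    [Algebra.IsCentral k B] [IsSimpleRing B] [FiniteDimensional k B]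
    (hA : Curves.Splits k A K) (hB : Curves.Splits k B K) : Curves.Splits k (A ⊗[k] B) K := by
  obtain ⟨n, hn, hdA, ⟨ψ⟩⟩ := splits_elim hA
  obtain ⟨m, hm, hdB, ⟨χ⟩⟩ := splits_elim hB
  have : NeZero n := ⟨hn⟩
  have : NeZero m := ⟨hm⟩
  refine splits_intro (ι := Fin n × Fin m) ?_
    (((Matrix.kroneckerAlgEquiv (Fin n) (Fin m) K).toAlgHom.restrictScalars k).comp
      (Algebra.TensorProduct.lift
        ((Algebra.TensorProduct.includeLeft (R := K) (S := K)).restrictScalars k |>.comp ψ)
        ((Algebra.TensorProduct.includeRight (R := K) (A := Matrix (Fin n) (Fin n) K)).restrictScalars k |>.comp χ)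
        fun a b => ((Commute.one_right _).tmul (Commute.one_left _))))
  rw [Module.finrank_tensorProduct, hdA, hdB, Fintype.card_prod, Fintype.card_fin, Fintype.card_fin,
    mul_pow]

omit [Algebra.IsCentral k A] in
theorem splits_matrix {K : Type w} [Field K] [Algebra k K] {n : ℕ} [NeZero n]
    {B : Type x} [Ring B] [Algebra k B] [Algebra.IsCentral k B] [IsSimpleRing B] [FiniteDimensional k B]
    (hA : Curves.Splits k A K) (e : B ≃ₐ[k] Matrix (Fin n) (Fin n) A) : Curves.Splits k B K := by
  obtain ⟨m, hm, hd, ⟨ψ⟩⟩ := splits_elim hA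
  have : NeZero m := ⟨hm⟩
  refine splits_intro (ι := Fin n × Fin m) ?_
    (((Matrix.compAlgEquiv (Fin n) (Fin m) K k).toAlgHom.comp ψ.mapMatrix).comp e.toAlgHom)
  rw [e.toLinearEquiv.finrank_eq, Module.finrank_matrix, hd, Fintype.card_prod, Fintype.card_fin,
    Fintype.card_fin]
  ring

variable (k A) in
theorem splits_of_isSepClosed (K : Type w) [Field K] [Algebra k K] [IsSepClosed K] :
    Curves.Splits k A K := by
  obtain ⟨n, hn, ⟨e⟩⟩ := exists_matrix_of_isSepClosed (k := K) (K ⊗[k] A)
  exact ⟨n, hn.ne', ⟨e⟩⟩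

variable (k A) in
theorem exists_sq : ∃ n : ℕ, n ≠ 0 ∧ Module.finrank k A = n ^ 2 := by
  obtain ⟨n, hn, hd, -⟩ := splits_elim (splits_of_isSepClosed k A (AlgebraicClosure k))
  exact ⟨n, hn, hd⟩

end Splits

section Subfield

/-- A vector space over a subfield, acting on the right. -/
def RMod {K : Type w} {A : Type v} [Field K] [Ring A] [Algebra k A] [Algebra k K] (_ι : K →ₐ[k] A) :
    Type v := A

variable {A : Type v} [Ring A] [Algebra k A] {K : Type w} [Field K] [Algebra k K] (ι : K →ₐ[k] A)

namespace RMod

instance : AddCommGroup (RMod ι) := inferInstanceAs (AddCommGroup A)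
instance : Module k (RMod ι) := inferInstanceAs (Module k A)
instance [FiniteDimensional k A] : FiniteDimensional k (RMod ι) := inferInstanceAs (FiniteDimensional k A)

/-- The element of the module given by an element of the algebra. -/
def mk (a : A) : RMod ι := a

variable {ι} in
/-- The element of the algebra underlying an element. -/
def val (a : RMod ι) : A := a

instance : Module K (RMod ι) where
  smul c v := mk ι (v.val * ι c)
  one_smul v := show v.val * ι 1 = v.val by rw [map_one, mul_one]
  mul_smul c d v := show v.val * ι (c * d) = v.val * ι d * ι c by rw [mul_comm, map_mul, mul_assoc]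
  smul_zero c := show (0 : A) * ι c = 0 from zero_mul _
  smul_add c v w := show (v.val + w.val) * ι c = v.val * ι c + w.val * ι c from add_mul ..
  add_smul c d v := show v.val * ι (c + d) = v.val * ι c + v.val * ι d by rw [map_add, mul_add]
  zero_smul v := show v.val * ι 0 = 0 by rw [map_zero, mul_zero]

theorem smul_val (c : K) (v : RMod ι) : (c • v).val = v.val * ι c := rfl

instance : IsScalarTower k K (RMod ι) := ⟨fun r c v => by
  change v.val * ι (r • c) = r • (v.val * ι c)
  rw [map_smul, mul_smul_comm]⟩

/-- Left multiplication, linear over the subfield. -/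
def mulL : A →ₐ[k] Module.End K (RMod ι) where
  toFun a :=
    { toFun := fun v => mk ι (a * v.val)
      map_add' := fun v w => mul_add a v.val w.val
      map_smul' := fun c v => (mul_assoc a v.val (ι c)).symm }
  map_one' := LinearMap.ext fun v => one_mul v.val
  map_mul' a b := LinearMap.ext fun v => mul_assoc a b v.val
  map_zero' := LinearMap.ext fun v => zero_mul v.val
  map_add' a b := LinearMap.ext fun v => add_mul a b v.val
  commutes' r := LinearMap.ext fun v => (Algebra.smul_def r v.val).symm

end RMod

include ι in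
theorem splits_of_subfield [Algebra.IsCentral k A] [IsSimpleRing A] [FiniteDimensional k A]
    (h : Module.finrank k A = Module.finrank k K ^ 2) : Curves.Splits k A K := by
  have hpos : 0 < Module.finrank k A := Module.finrank_pos
  have : FiniteDimensional k K := Module.finite_of_finrank_pos (by
    rw [h] at hpos; exact Nat.pos_of_mul_pos_left (by rwa [← sq]))
  have : FiniteDimensional K (RMod ι) := Module.Finite.of_restrictScalars_finite k K (RMod ι)
  have hV : Module.finrank K (RMod ι) = Module.finrank k K := by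
    have := Module.finrank_mul_finrank k K (RMod ι)
    rw [show Module.finrank k (RMod ι) = Module.finrank k A from rfl, h, sq] at this
    exact Nat.eq_of_mul_eq_mul_left Module.finrank_pos this
  let b := (Module.finBasisOfFinrankEq K (RMod ι) hV)
  have : Nonempty (Fin (Module.finrank k K)) := ⟨⟨0, Module.finrank_pos⟩⟩
  exact splits_intro (by rw [h, Fintype.card_fin])
    (((algEquivMatrix b).toAlgHom.restrictScalars k).comp (RMod.mulL ι))

end Subfield

section MaximalSubfield

variable (D : Type v) [DivisionRing D] [Algebra k D] [Algebra.IsCentral k D] [FiniteDimensional k D]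

/-- A central division algebra has a separable maximal subfield. -/
theorem exists_separable_maximal_subfield :
    ∃ (K : Type v) (_ : Field K) (_ : Algebra k K) (_ : K →ₐ[k] D),
      Algebra.IsSeparable k K ∧ FiniteDimensional k K ∧
        Module.finrank k K ^ 2 = Module.finrank k D := by
  classical
  let P : ℕ → Prop := fun j => ∃ (K : Type v) (_ : Field K) (_ : Algebra k K) (_ : K →ₐ[k] D),
    Algebra.IsSeparable k K ∧ FiniteDimensional k K ∧ Module.finrank k K = j
  have hb : ∀ j, P j → j ≤ Module.finrank k D := by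
    rintro j ⟨K, _, _, f, _, _, rfl⟩
    exact LinearMap.finrank_le_finrank_of_injective (f := f.toLinearMap) f.toRingHom.injective
  have h1 : P 1 := by
    let e : (⊥ : Subalgebra k D) ≃ₐ[k] k := Algebra.botEquiv k D
    letI : Field (⊥ : Subalgebra k D) :=
      ((e.toMulEquiv.isField (Field.toIsField k)) : IsField (⊥ : Subalgebra k D)).toField
    refine ⟨(⊥ : Subalgebra k D), inferInstance, inferInstance, Subalgebra.val _, ?_, ?_, ?_⟩
    · exact AlgEquiv.Algebra.isSeparable e.symm
    · exact Module.Finite.equiv e.symm.toLinearEquiv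
    · exact Subalgebra.finrank_bot
  obtain ⟨j, hj, hmax⟩ : ∃ j, P j ∧ ∀ i, P i → i ≤ j :=
    ⟨Nat.findGreatest P (Module.finrank k D), Nat.findGreatest_spec (hb 1 h1) h1,
      fun i hi => Nat.le_findGreatest (hb i hi) hi⟩
  obtain ⟨K, _, _, f, hsep, hfin, rfl⟩ := hj
  refine ⟨K, inferInstance, inferInstance, f, hsep, hfin, ?_⟩
  set C := Subalgebra.centralizer k (f.range : Set D) with hC
  obtain ⟨hCs, hCd⟩ := centralizer_simple_and_finrank f
  have hfC : ∀ c, f c ∈ C := fun c => (Subalgebra.mem_centralizer_iff k).2 fun g hg => by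
    obtain ⟨d, rfl⟩ := hg
    change f d * f c = f c * f d
    rw [← map_mul, ← map_mul, mul_comm]
  suffices hCe : ∀ x ∈ C, x ∈ f.range by
    have heq : f.range = C := le_antisymm (fun x hx => by obtain ⟨c, rfl⟩ := hx; exact hfC c) hCe
    rw [← hCd, ← hC, ← heq, sq]
    congr 1
    exact (LinearEquiv.ofInjective f.toLinearMap f.toRingHom.injective).finrank_eq
  have : IsDomain C := inferInstance
  letI : DivisionRing C := divisionRingOfFiniteDimensional k C
  letI : Algebra K C := RingHom.toAlgebra' (f.codRestrict C hfC).toRingHom fun c x =>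
    Subtype.ext (((Subalgebra.mem_centralizer_iff k).1 x.2 (f c) ⟨c, rfl⟩))
  have : IsScalarTower k K C := IsScalarTower.of_algebraMap_eq fun r =>
    Subtype.ext (f.commutes r).symm
  have : FiniteDimensional K C := Module.Finite.of_restrictScalars_finite k K C
  have : Algebra.IsCentral K C := ⟨fun z hz => by
    have hzz : (z : D) ∈ Subalgebra.centralizer k
        (Subalgebra.centralizer k (f.range : Set D) : Set D) :=
      (Subalgebra.mem_centralizer_iff k).2 fun g hg =>
        congrArg Subtype.val (Subalgebra.mem_center_iff.1 hz ⟨g, hg⟩)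
    rw [centralizer_centralizer f] at hzz
    obtain ⟨c, hc⟩ := hzz
    exact Algebra.mem_bot.2 ⟨c, Subtype.ext hc⟩⟩
  intro x hx
  by_contra hxf
  have hne : (⊥ : Subalgebra K C) ≠ ⊤ := fun h => by
    obtain ⟨c, hc⟩ := Algebra.mem_bot.1 (show (⟨x, hx⟩ : C) ∈ (⊥ : Subalgebra K C) from h ▸ trivial)
    exact hxf ⟨c, congrArg Subtype.val hc⟩
  obtain ⟨y, hy, hys⟩ := JacobsonNoether.exists_separable_and_not_isCentral' hne
  have hirr := minpoly.irreducible (IsIntegral.of_finite K y)
  have := Fact.mk hirr
  have : FiniteDimensional K (AdjoinRoot (minpoly K y)) :=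
    (AdjoinRoot.powerBasis (minpoly.ne_zero (IsIntegral.of_finite K y))).finite
  have : FiniteDimensional k (AdjoinRoot (minpoly K y)) := Module.Finite.trans K _
  have : Algebra.IsSeparable K (AdjoinRoot (minpoly K y)) := by
    have hr : IsSeparable K (AdjoinRoot.root (minpoly K y)) :=
      Polynomial.Separable.of_dvd hys (minpoly.dvd K _ (by rw [AdjoinRoot.aeval_eq, AdjoinRoot.mk_self]))
    have h := (IntermediateField.isSeparable_adjoin_simple_iff_isSeparable K _).2 hr
    rw [IntermediateField.adjoin_root_eq_top] at h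
    exact AlgEquiv.Algebra.isSeparable IntermediateField.topEquiv
  have : Algebra.IsSeparable k (AdjoinRoot (minpoly K y)) := Algebra.IsSeparable.trans k K _
  have hP : P (Module.finrank k (AdjoinRoot (minpoly K y))) :=
    ⟨AdjoinRoot (minpoly K y), inferInstance, inferInstance,
      C.val.comp ((Ideal.Quotient.liftₐ (Ideal.span {minpoly K y}) (Polynomial.aeval y) fun p hp => by
        obtain ⟨q, rfl⟩ := Ideal.mem_span_singleton.1 hp
        rw [map_mul, minpoly.aeval, zero_mul]).restrictScalars k),
      this, inferInstance, rfl⟩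
  have hle := hmax _ hP
  rw [← Module.finrank_mul_finrank k K (AdjoinRoot (minpoly K y))] at hle
  have hd : Module.finrank K (AdjoinRoot (minpoly K y)) = (minpoly K y).natDegree := by
    rw [(AdjoinRoot.powerBasis (minpoly.ne_zero (IsIntegral.of_finite K y))).finrank,
      AdjoinRoot.powerBasis_dim]
  have h2 : 2 ≤ (minpoly K y).natDegree :=
    (minpoly.two_le_natDegree_iff (IsIntegral.of_finite K y)).2 fun hm => hy (Algebra.mem_bot.2 hm)
  have hpos : 0 < Module.finrank k K := Module.finrank_pos
  rw [hd] at hle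
  nlinarith

end MaximalSubfield

section Galois

variable (A : Type v) [Ring A] [Algebra k A] [Algebra.IsCentral k A] [IsSimpleRing A]
  [FiniteDimensional k A]

/-- Over a central division algebra's matrix algebra, a separable splitting field of degree the index. -/
theorem exists_splitting_field (D : Type w) [DivisionRing D] [Algebra k D] [Algebra.IsCentral k D]
    [FiniteDimensional k D] {m : ℕ} [NeZero m] (e : A ≃ₐ[k] Matrix (Fin m) (Fin m) D) :
    ∃ K : IntermediateField k (AlgebraicClosure k), Algebra.IsSeparable k K ∧ FiniteDimensional k K ∧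
      Module.finrank k K ^ 2 = Module.finrank k D ∧ Curves.Splits k D K ∧ Curves.Splits k A K := by
  obtain ⟨K, _, _, ι, hsep, hfin, hd⟩ := exists_separable_maximal_subfield (k := k) D
  have hD : Curves.Splits k D K := splits_of_subfield ι hd.symm
  let j : K →ₐ[k] AlgebraicClosure k := IsAlgClosed.lift
  let e' : K ≃ₐ[k] j.fieldRange := AlgEquiv.ofInjectiveField j
  refine ⟨j.fieldRange, AlgEquiv.Algebra.isSeparable e', Module.Finite.equiv e'.toLinearEquiv, ?_,
    splits_map e'.toAlgHom hD, splits_map e'.toAlgHom (splits_matrix hD e)⟩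
  rw [← e'.toLinearEquiv.finrank_eq, hd]

theorem exists_galois_splitting_field :
    ∃ L : IntermediateField k (AlgebraicClosure k),
      FiniteDimensional k L ∧ IsGalois k L ∧ Curves.Splits k A L := by
  obtain ⟨m, D, _, _, hm, _, _, ⟨e⟩⟩ := wedderburn (k := k) A
  have : NeZero m := ⟨hm.ne'⟩
  obtain ⟨K, hsep, hfin, -, -, hK⟩ := exists_splitting_field A D e
  refine ⟨IntermediateField.normalClosure k K (AlgebraicClosure k), inferInstance,
    @IsGalois.mk _ _ _ _ _ ?_ inferInstance, ?_⟩
  · refine (le_separableClosure_iff k (AlgebraicClosure k) _).1 (iSup_le fun f => ?_)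
    rintro x ⟨y, rfl⟩
    exact mem_separableClosure_iff.2 (by
      unfold IsSeparable
      rw [AlgHom.toRingHom_eq_coe, RingHom.coe_coe, minpoly.algHom_eq f f.toRingHom.injective]
      exact Algebra.IsSeparable.isSeparable k y)
  exact splits_map (IntermediateField.inclusion (IntermediateField.le_normalClosure K)) hK

end Galois

end CSALib
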