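import Groth.Agent.CSALib.Basic

/-!
# Descent of central simplicity, Galois-fixed elements of a base change
-/

set_option autoImplicit false

universe u v w

open scoped TensorProduct

namespace CSALib

variable {k : Type u} [Field k] (K : Type w) [Field K] [Algebra k K]
variable {A : Type v}

section Module
variable [AddCommGroup A] [Module k A]

/-- Apply a functional to the second factor. -/
noncomputable def evalR (f : A →ₗ[k] k) : K ⊗[k] A →ₗ[k] K :=
  (TensorProduct.rid k K).toLinearMap ∘ₗ TensorProduct.map LinearMap.id f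

theorem evalR_tmul (f : A →ₗ[k] k) (c : K) (a : A) : evalR K f (c ⊗ₜ a) = f a • c := by
  simp [evalR]

theorem one_tmul_injective : Function.Injective fun a : A => (1 : K) ⊗ₜ[k] a := fun a b h => by
  refine sub_eq_zero.1 ((Module.forall_dual_apply_eq_zero_iff k _).1 fun f => ?_)
  have := congrArg (evalR K f) h
  rw [evalR_tmul, evalR_tmul, ← sub_eq_zero, ← sub_smul, smul_eq_zero] at this
  rw [map_sub]
  exact this.resolve_right one_ne_zero

/-- An element fixed by the Galois group comes from the ground field. -/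
theorem exists_of_fixed [IsGalois k K] [FiniteDimensional k K] (z : K ⊗[k] A)
    (hz : ∀ σ : K ≃ₐ[k] K, TensorProduct.map σ.toLinearMap LinearMap.id z = z) :
    ∃ a : A, z = (1 : K) ⊗ₜ[k] a := by
  let b := Module.Free.chooseBasis k A
  obtain ⟨c, hc⟩ := TensorProduct.eq_repr_basis_right b z
  have hfix : ∀ σ : K ≃ₐ[k] K, ∀ i, σ (c i) = c i := fun σ i => by
    have h := hz σ
    rw [← hc, map_finsuppSum] at h
    simp only [TensorProduct.map_tmul, LinearMap.id_apply, AlgEquiv.toLinearMap_apply] at h
    have h0 := TensorProduct.sum_tmul_basis_right_eq_zero b (c.mapRange (fun x => σ x - x) (by simp)) (by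
      rw [Finsupp.sum_mapRange_index (fun i => by simp)]
      simp only [Finsupp.sum, TensorProduct.sub_tmul, Finset.sum_sub_distrib] at h ⊢
      rw [h, sub_self])
    have := DFunLike.congr_fun h0 i
    rwa [Finsupp.mapRange_apply, Finsupp.coe_zero, Pi.zero_apply, sub_eq_zero] at this
  choose r hr using fun i => (IsGalois.mem_range_algebraMap_iff_fixed (F := k) (c i)).2 fun σ => hfix σ i
  refine ⟨∑ i ∈ c.support, r i • b i, ?_⟩
  rw [← hc, TensorProduct.tmul_sum, Finsupp.sum]
  exact Finset.sum_congr rfl fun i _ => by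
    rw [← hr i, Algebra.algebraMap_eq_smul_one, TensorProduct.smul_tmul]

end Module

section Algebra
variable [Ring A] [Algebra k A]

theorem simple_of_baseChange [IsSimpleRing (K ⊗[k] A)] : IsSimpleRing A := by
  have : Nontrivial A := by
    by_contra h
    rw [not_nontrivial_iff_subsingleton] at h
    exact zero_ne_one (show (0 : K ⊗[k] A) = 1 by
      rw [Algebra.TensorProduct.one_def, Subsingleton.elim (1 : A) 0, TensorProduct.tmul_zero])
  refine IsSimpleRing.of_eq_bot_or_eq_top fun I => or_iff_not_imp_left.2 fun hI => ?_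
  obtain ⟨a, ha, ha0⟩ : ∃ a ∈ I, a ≠ 0 := by
    by_contra h
    push Not at h
    exact hI (eq_bot_iff.2 fun z hz => (h z hz : z = 0))
  refine (TwoSidedIdeal.one_mem_iff I).1 ?_
  let N : Submodule k A :=
    { carrier := {x | x ∈ I}
      zero_mem' := I.zero_mem
      add_mem' := I.add_mem
      smul_mem' := fun c x hx => by
        change c • x ∈ I
        rw [Algebra.smul_def]
        exact I.mul_mem_left _ _ hx }
  let L : Submodule k (K ⊗[k] A) := LinearMap.range (TensorProduct.map LinearMap.id N.subtype)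
  have hl : ∀ x, ∀ z ∈ L, x * z ∈ L ∧ z * x ∈ L := fun x z hz => by
    obtain ⟨w, rfl⟩ := hz
    induction w with
    | zero => simpa using L.zero_mem
    | add p q hp hq =>
      rw [map_add, mul_add, add_mul]
      exact ⟨L.add_mem hp.1 hq.1, L.add_mem hp.2 hq.2⟩
    | tmul c m =>
      induction x with
      | zero => simpa using L.zero_mem
      | add p q hp hq =>
        rw [mul_add, add_mul]
        exact ⟨L.add_mem hp.1 hq.1, L.add_mem hp.2 hq.2⟩
      | tmul d y =>
        refine ⟨⟨(d * c) ⊗ₜ ⟨y * m, I.mul_mem_left _ _ m.2⟩, ?_⟩,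
          ⟨(c * d) ⊗ₜ ⟨m * y, I.mul_mem_right _ _ m.2⟩, ?_⟩⟩ <;> simp
  let J : TwoSidedIdeal (K ⊗[k] A) := TwoSidedIdeal.mk' (L : Set (K ⊗[k] A)) L.zero_mem
    (fun hx hy => L.add_mem hx hy) (fun hx => L.neg_mem hx)
    (fun hy => (hl _ _ hy).1) (fun hx => (hl _ _ hx).2)
  have h1 : (1 : K ⊗[k] A) ∈ J := by
    refine IsSimpleRing.one_mem_of_ne_zero_mem J (x := (1 : K) ⊗ₜ[k] a) ?_
      ((TwoSidedIdeal.mem_mk' ..).2 ⟨(1 : K) ⊗ₜ ⟨a, ha⟩, rfl⟩)
    intro h
    exact ha0 (one_tmul_injective K (h.trans (TensorProduct.tmul_zero _ _).symm))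
  rw [TwoSidedIdeal.mem_mk'] at h1
  obtain ⟨w, hw⟩ := h1
  by_contra h
  obtain ⟨f, hf, hf0⟩ := Submodule.exists_dual_map_eq_bot_of_notMem (show (1 : A) ∉ N from h) inferInstance
  have hker : ∀ w : K ⊗[k] N, evalR K f (TensorProduct.map LinearMap.id N.subtype w) = 0 := fun w => by
    induction w with
    | zero => simp
    | add p q hp hq => simp [hp, hq]
    | tmul c m =>
      have hm : f m ∈ Submodule.map f N := Submodule.mem_map_of_mem m.2
      rw [hf0, Submodule.mem_bot] at hm
      simp [evalR_tmul, hm]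
  have := hker w
  rw [hw, Algebra.TensorProduct.one_def, evalR_tmul, smul_eq_zero] at this
  exact hf (this.resolve_right one_ne_zero)

theorem central_of_baseChange [Algebra.IsCentral K (K ⊗[k] A)] : Algebra.IsCentral k A := by
  refine ⟨fun z hz => ?_⟩
  rw [Subalgebra.mem_center_iff] at hz
  have hc : (1 : K) ⊗ₜ[k] z ∈ Subalgebra.center K (K ⊗[k] A) := Subalgebra.mem_center_iff.2 fun y => by
    induction y with
    | zero => simp
    | add p q hp hq => rw [add_mul, mul_add, hp, hq]
    | tmul d y => simp [hz y]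
  obtain ⟨c, hc⟩ := Algebra.mem_bot.1 (Algebra.IsCentral.out hc)
  rw [Algebra.TensorProduct.algebraMap_apply] at hc
  by_contra h
  obtain ⟨f, hf, hf0⟩ := Submodule.exists_dual_map_eq_bot_of_notMem
    (p := Submodule.span k {(1 : A)}) (show z ∉ Submodule.span k {(1 : A)} from fun hm => h (by
      obtain ⟨r, rfl⟩ := Submodule.mem_span_singleton.1 hm
      exact Algebra.mem_bot.2 ⟨r, (Algebra.algebraMap_eq_smul_one r)⟩)) inferInstance
  have h1 : f 1 = 0 := by
    have hm : f 1 ∈ Submodule.map f (Submodule.span k {(1 : A)}) :=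
      Submodule.mem_map_of_mem (Submodule.mem_span_singleton_self 1)
    rwa [hf0, Submodule.mem_bot] at hm
  have := congrArg (evalR K f) hc
  rw [evalR_tmul, evalR_tmul, h1, zero_smul, eq_comm, smul_eq_zero] at this
  exact hf (this.resolve_right one_ne_zero)

end Algebra

end CSALib
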