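import Groth.Agent.CSALib.Split
import Groth.Agent.CSALib.Descent

/-!
# Finite tensor products of central simple algebras
-/

set_option autoImplicit false

universe u v w

open scoped TensorProduct

namespace CSALib

variable {k : Type u} [Field k] {ι : Type} [Fintype ι] [DecidableEq ι]

section Kr

variable {R : Type w} [CommRing R] (n : ι → ℕ)

/-- The Kronecker product of a finite family of matrices. -/
def kr : MultilinearMap R (fun i => Matrix (Fin (n i)) (Fin (n i)) R)
    (Matrix (Π i, Fin (n i)) (Π i, Fin (n i)) R) :=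
  MultilinearMap.mk' (fun M => Matrix.of fun f g => ∏ i, M i (f i) (g i))
    (fun M i x y => by
      ext f g
      simp only [Matrix.of_apply, Matrix.add_apply]
      rw [← Finset.mul_prod_erase _ _ (Finset.mem_univ i), ← Finset.mul_prod_erase _ _ (Finset.mem_univ i),
        ← Finset.mul_prod_erase _ _ (Finset.mem_univ i)]
      simp only [Function.update_self, Matrix.add_apply]
      rw [add_mul]
      congr 2 <;> exact Finset.prod_congr rfl fun j hj => by
        rw [Function.update_of_ne (Finset.ne_of_mem_erase hj), Function.update_of_ne (Finset.ne_of_mem_erase hj)])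
    (fun M i c x => by
      ext f g
      simp only [Matrix.of_apply, Matrix.smul_apply, smul_eq_mul]
      rw [← Finset.mul_prod_erase _ _ (Finset.mem_univ i), ← Finset.mul_prod_erase _ _ (Finset.mem_univ i)]
      simp only [Function.update_self, Matrix.smul_apply, smul_eq_mul]
      rw [mul_assoc]
      congr 2
      exact Finset.prod_congr rfl fun j hj => by
        rw [Function.update_of_ne (Finset.ne_of_mem_erase hj), Function.update_of_ne (Finset.ne_of_mem_erase hj)])

theorem kr_apply (M : Π i, Matrix (Fin (n i)) (Fin (n i)) R) (f g : Π i, Fin (n i)) :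
    kr n M f g = ∏ i, M i (f i) (g i) := rfl

theorem kr_one : kr (R := R) n 1 = 1 := by
  ext f g
  rw [kr_apply]
  simp only [Pi.one_apply, Matrix.one_apply]
  by_cases h : f = g
  · simp [h]
  · obtain ⟨i, hi⟩ := Function.ne_iff.1 h
    rw [if_neg h]
    exact Finset.prod_eq_zero (Finset.mem_univ i) (by rw [if_neg hi])

theorem kr_mul (M N : Π i, Matrix (Fin (n i)) (Fin (n i)) R) :
    kr n (M * N) = kr n M * kr n N := by
  ext f g
  simp only [kr_apply, Pi.mul_apply, Matrix.mul_apply]
  rw [Fintype.prod_sum]
  simp_rw [Finset.prod_mul_distrib]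

theorem kr_single (f g : Π i, Fin (n i)) :
    kr (R := R) n (fun i => Matrix.single (f i) (g i) 1) = Matrix.single f g 1 := by
  ext a b
  rw [kr_apply]
  by_cases h : f = a ∧ g = b
  · obtain ⟨rfl, rfl⟩ := h
    simp
  · rw [Matrix.single_apply, if_neg h]
    rcases not_and_or.1 h with h' | h' <;> obtain ⟨i, hi⟩ := Function.ne_iff.1 h' <;>
      exact Finset.prod_eq_zero (Finset.mem_univ i) (by simp [Matrix.single_apply, hi])

end Kr

variable (A : ι → Type v) [∀ i, Ring (A i)] [∀ i, Algebra k (A i)] [∀ i, FiniteDimensional k (A i)]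

omit [DecidableEq ι] in
theorem finrank_piTensor : Module.finrank k (⨂[k] i, A i) = ∏ i, Module.finrank k (A i) := by
  classical
  rw [Module.finrank_eq_card_basis (Basis.piTensorProduct fun i => Module.finBasis k (A i)),
    Fintype.card_pi]
  simp

omit [DecidableEq ι] in
instance finiteDimensional_piTensor : FiniteDimensional k (⨂[k] i, A i) :=
  .of_basis (Basis.piTensorProduct fun i => Module.finBasis k (A i))

section Hom

variable {A} {K : Type w} [Field K] [Algebra k K] {n : ι → ℕ}
  (ψ : ∀ i, A i →ₐ[k] Matrix (Fin (n i)) (Fin (n i)) K)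

/-- The product representation. -/
noncomputable def piHom : (⨂[k] i, A i) →ₐ[k] Matrix (Π i, Fin (n i)) (Π i, Fin (n i)) K :=
  PiTensorProduct.liftAlgHom (((kr n).restrictScalars k).compLinearMap fun i => (ψ i).toLinearMap)
    (by
      change kr n (fun i => ψ i 1) = 1
      simp only [map_one]
      exact kr_one n)
    (fun x y => by
      change kr n (fun i => ψ i (x i * y i)) = kr n (fun i => ψ i (x i)) * kr n (fun i => ψ i (y i))
      simp only [map_mul]
      exact kr_mul n _ _)

omit [∀ i, FiniteDimensional k (A i)] in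
theorem piHom_tprod (x : Π i, A i) :
    piHom ψ (PiTensorProduct.tprod k x) = kr n fun i => ψ i (x i) :=
  PiTensorProduct.lift.tprod x

/-- The base change of the product representation. -/
noncomputable def piLift :
    K ⊗[k] (⨂[k] i, A i) →ₐ[K] Matrix (Π i, Fin (n i)) (Π i, Fin (n i)) K :=
  Algebra.TensorProduct.lift (Algebra.ofId K _) (piHom ψ) fun c a => Algebra.commutes (R := K) c (piHom ψ a)

omit [∀ i, FiniteDimensional k (A i)] in
theorem piLift_tmul (c : K) (z : ⨂[k] i, A i) : piLift ψ (c ⊗ₜ z) = c • piHom ψ z := by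
  rw [Algebra.smul_def, piLift]
  exact Algebra.TensorProduct.lift_tmul (Algebra.ofId K (Matrix (Π i, Fin (n i)) (Π i, Fin (n i)) K))
    (piHom ψ) (fun x y => Algebra.commutes (R := K) x (piHom ψ y)) c z

variable [∀ i, IsSimpleRing (A i)] [∀ i, Algebra.IsCentral k (A i)] [∀ i, NeZero (n i)]
  (hd : ∀ i, Module.finrank k (A i) = n i ^ 2)

theorem piLift_surjective (hd : ∀ i, Module.finrank k (A i) = n i ^ 2) :
    Function.Surjective (piLift ψ) := by
  let b : ∀ i, Module.Basis _ K (Matrix (Fin (n i)) (Fin (n i)) K) := fun i =>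
    ((Module.finBasis k (A i)).baseChange K).map (splitEquiv (hd i) (ψ i)).toLinearEquiv
  have hb : ∀ i j, b i j = ψ i (Module.finBasis k (A i) j) := fun i j => by
    simp [b, splitEquiv_tmul]
  have hkr : ∀ M, kr n M ∈ LinearMap.range (piLift ψ).toLinearMap := fun M => by
    have hM : M = fun i => ∑ j, (b i).repr (M i) j • b i j := funext fun i => ((b i).sum_repr _).symm
    rw [hM, (kr n).map_sum]
    refine Submodule.sum_mem _ fun r _ => ?_
    rw [(kr n).map_smul_univ (fun i => (b i).repr (M i) (r i)) fun i => b i (r i)]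
    refine Submodule.smul_mem _ _
      ⟨1 ⊗ₜ PiTensorProduct.tprod k (fun i => Module.finBasis k (A i) (r i)), ?_⟩
    rw [AlgHom.toLinearMap_apply, piLift_tmul, one_smul, piHom_tprod]
    simp only [hb]
  intro M
  have hM : M ∈ LinearMap.range (piLift ψ).toLinearMap := by
    rw [Matrix.matrix_eq_sum_single M]
    refine Submodule.sum_mem _ fun f _ => Submodule.sum_mem _ fun g _ => ?_
    have := Submodule.smul_mem _ (M f g) (hkr fun i => Matrix.single (f i) (g i) 1)
    rwa [kr_single, Matrix.smul_single, smul_eq_mul, mul_one] at this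
  exact hM

/-- The product splitting. -/
noncomputable def piSplit (hd : ∀ i, Module.finrank k (A i) = n i ^ 2) :
    K ⊗[k] (⨂[k] i, A i) ≃ₐ[K] Matrix (Π i, Fin (n i)) (Π i, Fin (n i)) K :=
  AlgEquiv.ofBijective (piLift ψ)
    ⟨(LinearMap.injective_iff_surjective_of_finrank_eq_finrank (f := (piLift ψ).toLinearMap) (by
        rw [Module.finrank_baseChange, finrank_piTensor, Module.finrank_matrix, Module.finrank_self,
          mul_one, Fintype.card_pi, ← Finset.prod_mul_distrib]
        exact Finset.prod_congr rfl fun i _ => by rw [hd, Fintype.card_fin, sq])).2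
      (piLift_surjective ψ hd), piLift_surjective ψ hd⟩

theorem piSplit_tmul (hd : ∀ i, Module.finrank k (A i) = n i ^ 2) (c : K) (z : ⨂[k] i, A i) :
    piSplit ψ hd (c ⊗ₜ z) = c • piHom ψ z := piLift_tmul ψ c z

end Hom

variable [∀ i, IsSimpleRing (A i)] [∀ i, Algebra.IsCentral k (A i)]

omit [DecidableEq ι] in
theorem piTensor_csa : Algebra.IsCentral k (⨂[k] i, A i) ∧ IsSimpleRing (⨂[k] i, A i) := by
  classical
  choose n hn hd ψ using fun i => splits_elim (splits_of_isSepClosed k (A i) (AlgebraicClosure k))
  have : ∀ i, NeZero (n i) := fun i => ⟨hn i⟩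
  let e := piSplit (fun i => (ψ i).some) hd
  have := central_of_equiv e.symm
  have : IsSimpleRing (AlgebraicClosure k ⊗[k] (⨂[k] i, A i)) := simple_of_equiv e.symm
  exact ⟨central_of_baseChange (k := k) (AlgebraicClosure k),
    simple_of_baseChange (k := k) (AlgebraicClosure k)⟩

instance isCentral_piTensor : Algebra.IsCentral k (⨂[k] i, A i) := (piTensor_csa A).1

instance isSimpleRing_piTensor : IsSimpleRing (⨂[k] i, A i) := (piTensor_csa A).2

end CSALib
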