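import Mathlib

/-!
# The antisymmetrizer matrix
-/

set_option autoImplicit false

universe u

namespace CSALib

variable (K : Type u) [Field K] (r n : ℕ)

/-- The antisymmetrizer on `(K^n)^{⊗ r}`. -/
def asym : Matrix (Fin r → Fin n) (Fin r → Fin n) K :=
  Matrix.of fun f g =>
    ∑ σ : Equiv.Perm (Fin r), if f = g ∘ σ then ((Equiv.Perm.sign σ : ℤ) : K) else 0

variable {K r n}

theorem asym_apply (f g : Fin r → Fin n) :
    asym K r n f g =
      ∑ σ : Equiv.Perm (Fin r), if f = g ∘ σ then ((Equiv.Perm.sign σ : ℤ) : K) else 0 := rfl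

theorem asym_eq_zero {f : Fin r → Fin n} (hf : ¬ Function.Injective f) (g : Fin r → Fin n) :
    asym K r n f g = 0 := by
  simp only [Function.Injective, not_forall] at hf
  obtain ⟨i, j, hij, hne⟩ := hf
  have hfs : f ∘ Equiv.swap i j = f := funext fun l => by
    rw [Function.comp_apply, Equiv.swap_apply_def]
    split_ifs with h1 h2
    · rw [h1, hij]
    · rw [h2, hij]
    · rfl
  have key : ∀ σ : Equiv.Perm (Fin r), f = g ∘ ⇑(σ * Equiv.swap i j) ↔ f = g ∘ ⇑σ := fun σ => by
    constructor
    · intro h
      calc f = f ∘ Equiv.swap i j := hfs.symm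
        _ = g ∘ σ := by rw [h]; funext l; simp
    · intro h
      calc f = f ∘ Equiv.swap i j := hfs.symm
        _ = g ∘ ⇑(σ * Equiv.swap i j) := by rw [h]; funext l; simp
  rw [asym_apply]
  refine Finset.sum_involution (fun σ _ => σ * Equiv.swap i j) (fun σ _ => ?_) (fun σ _ _ => ?_)
    (fun σ _ => Finset.mem_univ _) (fun σ _ => by simp [mul_assoc])
  · rw [if_congr (key σ) rfl rfl]
    split_ifs
    · simp [hne]
    · simp
  · intro h
    exact hne (by simpa using (DFunLike.congr_fun (mul_eq_left.1 h) i).symm)

theorem asym_comp (f g : Fin r → Fin n) (τ : Equiv.Perm (Fin r)) :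
    asym K r n (f ∘ τ) g = ((Equiv.Perm.sign τ : ℤ) : K) * asym K r n f g := by
  rw [asym_apply, asym_apply, Finset.mul_sum]
  refine (Fintype.sum_equiv (Equiv.mulRight τ) _ _ fun σ => ?_).symm
  rw [Equiv.coe_mulRight]
  have : f ∘ τ = g ∘ ⇑(σ * τ) ↔ f = g ∘ ⇑σ := by
    constructor
    · intro h
      funext l
      simpa using congrFun h (τ.symm l)
    · intro h
      rw [h]; rfl
  rw [if_congr this rfl rfl]
  split_ifs
  · simp [mul_comm]
  · simp

/-- The increasing enumeration of an `r`-element subset. -/
def enum (s : Set.powersetCard (Fin n) r) : Fin r → Fin n := s.1.orderEmbOfFin s.2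

theorem enum_inj (s : Set.powersetCard (Fin n) r) : Function.Injective (enum s) :=
  (s.1.orderEmbOfFin s.2).injective

theorem range_enum (s : Set.powersetCard (Fin n) r) : Set.range (enum s) = s.1 :=
  Finset.range_orderEmbOfFin _ _

theorem asym_enum (s t : Set.powersetCard (Fin n) r) :
    asym K r n (enum s) (enum t) = if s = t then 1 else 0 := by
  rw [asym_apply]
  split_ifs with h
  · subst h
    rw [Finset.sum_eq_single (1 : Equiv.Perm (Fin r)) (fun σ _ hσ => if_neg fun hh => hσ ?_)
      (by simp)]
    · simp
    · exact Equiv.ext fun l => (enum_inj s (congrFun hh l)).symm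
  · refine Finset.sum_eq_zero fun σ _ => if_neg fun hh => h (Subtype.ext (Finset.coe_injective ?_))
    rw [← range_enum s, ← range_enum t, hh, Set.range_comp, σ.surjective.range_eq, Set.image_univ]

theorem exists_enum {f : Fin r → Fin n} (hf : Function.Injective f) :
    ∃ (s : Set.powersetCard (Fin n) r) (τ : Equiv.Perm (Fin r)), f = enum s ∘ τ := by
  let t : Finset (Fin n) := Finset.univ.image f
  have ht : t.card = r := by
    rw [Finset.card_image_of_injective _ hf, Finset.card_univ, Fintype.card_fin]
  let g : Fin r → Fin r := fun l => (t.orderIsoOfFin ht).symm ⟨f l, by simp [t]⟩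
  have hg : Function.Injective g := fun a b hab =>
    hf (congrArg Subtype.val ((t.orderIsoOfFin ht).symm.injective hab))
  refine ⟨⟨t, ht⟩, Equiv.ofBijective g ⟨hg, Finite.injective_iff_surjective.1 hg⟩, funext fun l => ?_⟩
  change f l = t.orderEmbOfFin ht ((t.orderIsoOfFin ht).symm ⟨f l, _⟩)
  rw [← Finset.coe_orderIsoOfFin_apply, OrderIso.apply_symm_apply]

theorem finrank_rowSpace :
    Module.finrank K (Submodule.span K (Set.range fun f : Fin r → Fin n => asym K r n f)) = n.choose r := by
  let v : Set.powersetCard (Fin n) r → (Fin r → Fin n) → K := fun s => asym K r n (enum s)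
  have hli : LinearIndependent K v := Fintype.linearIndependent_iff.2 fun c hc t => by
    have := congrFun hc (enum t)
    simpa [v, Finset.sum_apply, asym_enum] using this
  have hspan : Submodule.span K (Set.range fun f : Fin r → Fin n => asym K r n f) =
      Submodule.span K (Set.range v) := by
    refine le_antisymm (Submodule.span_le.2 ?_) (Submodule.span_mono ?_)
    · rintro _ ⟨f, rfl⟩
      by_cases hf : Function.Injective f
      · obtain ⟨s, τ, rfl⟩ := exists_enum hf
        have : asym K r n (enum s ∘ τ) = ((Equiv.Perm.sign τ : ℤ) : K) • v s :=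
          funext fun g => asym_comp _ _ _
        change asym K r n (enum s ∘ τ) ∈ _
        rw [this]
        exact Submodule.smul_mem _ _ (Submodule.subset_span ⟨s, rfl⟩)
      · have : asym K r n f = 0 := funext fun g => asym_eq_zero hf g
        change asym K r n f ∈ _
        rw [this]
        exact Submodule.zero_mem _
    · rintro _ ⟨s, rfl⟩
      exact ⟨enum s, rfl⟩
  rw [hspan, finrank_span_eq_card hli, ← Nat.card_eq_fintype_card, Set.powersetCard.card,
    Nat.card_fin]

/-- The left ideal generated by the antisymmetrizer. -/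
theorem finrank_range_mulRight :
    Module.finrank K (LinearMap.range (LinearMap.mulRight K (asym K r n))) = n ^ r * n.choose r := by
  let W := Submodule.span K (Set.range fun f : Fin r → Fin n => asym K r n f)
  have hW : W = LinearMap.range (Matrix.vecMulLinear (asym K r n)) := by
    rw [range_vecMulLinear]
    rfl
  have e : LinearMap.range (LinearMap.mulRight K (asym K r n)) =
      Submodule.pi Set.univ fun _ => W := by
    apply le_antisymm
    · rintro _ ⟨X, rfl⟩ f -
      rw [hW]
      exact ⟨X f, (Matrix.mul_apply_eq_vecMul ..).symm⟩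
    · intro M hM
      have h1 : ∀ f, ∃ x, Matrix.vecMulLinear (asym K r n) x = M f := fun f => by
        have := hM f trivial
        rwa [hW] at this
      choose x hx using h1
      exact ⟨Matrix.of x, funext fun f => (Matrix.mul_apply_eq_vecMul ..).trans (hx f)⟩
  let φ : LinearMap.range (LinearMap.mulRight K (asym K r n)) ≃ₗ[K] ((Fin r → Fin n) → W) :=
    { toFun := fun M f => ⟨M.1 f, (e ▸ M.2 : M.1 ∈ Submodule.pi Set.univ fun _ => W) f trivial⟩
      map_add' := fun _ _ => rfl
      map_smul' := fun _ _ => rfl
      invFun := fun v => ⟨fun f => (v f).1, by rw [e]; exact fun f _ => (v f).2⟩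
      left_inv := fun _ => rfl
      right_inv := fun _ => rfl }
  rw [φ.finrank_eq, Module.finrank_pi_fintype, Finset.sum_const, Finset.card_univ, Fintype.card_fun,
    Fintype.card_fin, Fintype.card_fin, smul_eq_mul, finrank_rowSpace]

end CSALib
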