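import Groth.Agent.S7722
import Mathlib

/-!
# Tensor products of central simple algebras
-/

set_option autoImplicit false

universe u v w

open scoped TensorProduct
open MulOpposite

namespace CSALib

variable {k : Type u} [Field k]

section Transport

variable {A : Type v} {B : Type w} [Ring A] [Algebra k A] [Ring B] [Algebra k B]

theorem simple_of_equiv (e : A ≃ₐ[k] B) [IsSimpleRing A] : IsSimpleRing B :=
  IsSimpleRing.of_ringEquiv e.toRingEquiv inferInstance

theorem central_of_equiv (e : A ≃ₐ[k] B) [Algebra.IsCentral k A] : Algebra.IsCentral k B := by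
  refine ⟨fun z hz => ?_⟩
  have h : e.symm z ∈ Subalgebra.center k A := Subalgebra.mem_center_iff.2 fun y =>
    e.injective (by simpa using Subalgebra.mem_center_iff.1 hz (e y))
  obtain ⟨r, hr⟩ := Algebra.mem_bot.1 (Algebra.IsCentral.out h)
  exact Algebra.mem_bot.2 ⟨r, e.symm.injective (by simpa using hr)⟩

theorem finite_of_equiv (e : A ≃ₐ[k] B) [Module.Finite k A] : Module.Finite k B :=
  Module.Finite.equiv e.toLinearEquiv

theorem injective_algHom [IsSimpleRing A] [Nontrivial B] (f : A →ₐ[k] B) : Function.Injective f :=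
  f.toRingHom.injective

theorem bijective_algHom [IsSimpleRing A] [Nontrivial B] [FiniteDimensional k A]
    [FiniteDimensional k B] (f : A →ₐ[k] B) (h : Module.finrank k A = Module.finrank k B) :
    Function.Bijective f :=
  ⟨injective_algHom f,
    (LinearMap.injective_iff_surjective_of_finrank_eq_finrank (f := f.toLinearMap) h).1 (injective_algHom f)⟩

theorem finrank_pos_of_nontrivial [Nontrivial A] [FiniteDimensional k A] : 0 < Module.finrank k A :=
  Module.finrank_pos

end Transport

section Tensor

variable (A : Type v) [Ring A] [Algebra k A] [Algebra.IsCentral k A] [IsSimpleRing A]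
  [FiniteDimensional k A] (B : Type w) [Ring B] [Algebra k B]

omit [Algebra.IsCentral k A] [IsSimpleRing A] [FiniteDimensional k A] in
theorem basis_expansion {ι : Type*} [Fintype ι] (b : Module.Basis ι k A) (z : A ⊗[k] B) :
    ∃ c : ι → B, z = ∑ i, b i ⊗ₜ[k] c i := by
  induction z with
  | zero => exact ⟨0, by simp⟩
  | tmul a x =>
    refine ⟨fun i => b.repr a i • x, ?_⟩
    conv_lhs => rw [← b.sum_repr a]
    rw [TensorProduct.sum_tmul]
    exact Finset.sum_congr rfl fun i _ => by rw [TensorProduct.smul_tmul]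
  | add x y hx hy =>
    obtain ⟨c, rfl⟩ := hx
    obtain ⟨d, rfl⟩ := hy
    exact ⟨c + d, by simp [TensorProduct.tmul_add, Finset.sum_add_distrib]⟩

theorem map_end_mem (I : TwoSidedIdeal (A ⊗[k] B)) {z : A ⊗[k] B} (hz : z ∈ I) (f : Module.End k A) :
    TensorProduct.map f LinearMap.id z ∈ I := by
  obtain ⟨t, rfl⟩ := (Groth.Agent.S7722.result k A).2 f
  induction t with
  | zero => simpa using I.zero_mem
  | add s t hs ht =>
    rw [map_add, TensorProduct.map_add_left]
    exact I.add_mem hs ht
  | tmul a c =>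
    have : TensorProduct.map (AlgHom.mulLeftRight k A (a ⊗ₜ c)) LinearMap.id z =
        (a ⊗ₜ[k] (1 : B)) * z * (c.unop ⊗ₜ[k] (1 : B)) := by
      clear hz
      induction z with
      | zero => simp
      | add x y hx hy => rw [map_add, hx, hy, mul_add, add_mul]
      | tmul x y => simp
    rw [this]
    exact I.mul_mem_right _ _ (I.mul_mem_left _ _ hz)

instance isSimpleRing_tensor [IsSimpleRing B] : IsSimpleRing (A ⊗[k] B) := by
  have hinj : Function.Injective (Algebra.TensorProduct.includeRight : B →ₐ[k] A ⊗[k] B) :=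
    Algebra.TensorProduct.includeRight_injective (FaithfulSMul.algebraMap_injective k A)
  have : Nontrivial (A ⊗[k] B) := hinj.nontrivial
  refine IsSimpleRing.of_eq_bot_or_eq_top fun I => or_iff_not_imp_left.2 fun hI => ?_
  obtain ⟨z, hz, hz0⟩ : ∃ z ∈ I, z ≠ 0 := by
    by_contra h
    push Not at h
    exact hI (eq_bot_iff.2 fun z hz => (h z hz : z = 0))
  let b := Module.finBasis k A
  obtain ⟨c, rfl⟩ := basis_expansion A B b z
  obtain ⟨i, hi⟩ : ∃ i, c i ≠ 0 := by
    by_contra h
    push Not at h
    simp [h] at hz0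
  have h1 : (1 : A) ⊗ₜ[k] c i ∈ I := by
    have := map_end_mem A B I hz ((LinearMap.toSpanSingleton k A 1).comp (b.coord i))
    rw [map_sum, Finset.sum_eq_single i (fun j _ hj => by
      simp [Finsupp.single_eq_of_ne hj.symm]) (by simp)] at this
    simpa using this
  let J : TwoSidedIdeal B := TwoSidedIdeal.mk' {x | (1 : A) ⊗ₜ[k] x ∈ I}
    (by simpa using I.zero_mem)
    (fun {x y} hx hy => by simpa [TensorProduct.tmul_add] using I.add_mem hx hy)
    (fun {x} hx => by simpa [TensorProduct.tmul_neg] using I.neg_mem hx)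
    (fun {x y} hy => by simpa using I.mul_mem_left ((1 : A) ⊗ₜ[k] x) _ hy)
    (fun {x y} hx => by simpa using I.mul_mem_right _ ((1 : A) ⊗ₜ[k] y) hx)
  have h2 : (1 : B) ∈ J := IsSimpleRing.one_mem_of_ne_zero_mem J hi ((TwoSidedIdeal.mem_mk' ..).2 h1)
  rw [TwoSidedIdeal.mem_mk'] at h2
  exact (TwoSidedIdeal.one_mem_iff I).1 h2

instance isCentral_tensor [Algebra.IsCentral k B] [Nontrivial B] : Algebra.IsCentral k (A ⊗[k] B) := by
  refine ⟨fun z hz => ?_⟩
  rw [Subalgebra.mem_center_iff] at hz
  rcases subsingleton_or_nontrivial B with h | h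
  · exact absurd h (not_subsingleton B)
  let b := Module.finBasis k A
  obtain ⟨c, rfl⟩ := basis_expansion A B b z
  have hinj : ∀ d : Fin (Module.finrank k A) → B, ∑ i, b i ⊗ₜ[k] d i = 0 → d = 0 := fun d hd => funext fun i => by
    have := congrArg (fun w => TensorProduct.lid k B (TensorProduct.map (b.coord i) LinearMap.id w)) hd
    simpa [map_sum, Finsupp.single_apply, Finset.sum_ite_eq', ite_smul] using this
  have hc : ∀ i, c i ∈ Set.range (algebraMap k B) := fun i => by
    have hm : c i ∈ Subalgebra.center k B := Subalgebra.mem_center_iff.2 fun y => by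
      have h := hinj (fun i => y * c i - c i * y) (by
        have := hz ((1 : A) ⊗ₜ[k] y)
        simp only [Finset.mul_sum, Finset.sum_mul, Algebra.TensorProduct.tmul_mul_tmul, one_mul, mul_one] at this
        simp [TensorProduct.tmul_sub, Finset.sum_sub_distrib, this])
      exact sub_eq_zero.1 (congrFun h i)
    exact Algebra.mem_bot.1 (Algebra.IsCentral.out hm)
  choose l hl using hc
  have ha : ∑ i, b i ⊗ₜ[k] c i = (∑ i, l i • b i) ⊗ₜ[k] (1 : B) := by
    rw [TensorProduct.sum_tmul]
    exact Finset.sum_congr rfl fun i _ => by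
      rw [TensorProduct.smul_tmul, ← hl, Algebra.algebraMap_eq_smul_one]
  rw [ha] at hz ⊢
  have hm : (∑ i, l i • b i) ∈ Subalgebra.center k A := Subalgebra.mem_center_iff.2 fun y => by
    apply Algebra.TensorProduct.includeLeft_injective (S := k) (B := B)
      (FaithfulSMul.algebraMap_injective k B)
    simpa using hz (y ⊗ₜ[k] (1 : B))
  obtain ⟨r, hr⟩ := Algebra.mem_bot.1 (Algebra.IsCentral.out hm)
  exact Algebra.mem_bot.2 ⟨r, by rw [← hr]; rfl⟩

end Tensor

section BaseChange

variable (A : Type v) [Ring A] [Algebra k A] [Algebra.IsCentral k A] [IsSimpleRing A]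
  [FiniteDimensional k A] (K : Type w) [Field K] [Algebra k K]

instance isSimpleRing_baseChange : IsSimpleRing (K ⊗[k] A) :=
  simple_of_equiv (Algebra.TensorProduct.comm k A K)

instance isCentral_baseChange : Algebra.IsCentral K (K ⊗[k] A) := by
  refine ⟨fun z hz => ?_⟩
  rw [Subalgebra.mem_center_iff] at hz
  let e := Module.Free.chooseBasis k K
  obtain ⟨c, rfl⟩ := TensorProduct.eq_repr_basis_left e z
  have hc : ∀ i, c i ∈ Subalgebra.center k A := fun i => Subalgebra.mem_center_iff.2 fun x => by
    have h := hz ((1 : K) ⊗ₜ[k] x)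
    simp only [Finsupp.sum, Finset.mul_sum, Finset.sum_mul, Algebra.TensorProduct.tmul_mul_tmul,
      one_mul, mul_one] at h
    have h0 := TensorProduct.sum_tmul_basis_left_eq_zero e
      (c.mapRange (fun a => x * a - a * x) (by simp)) (by
      rw [Finsupp.sum_mapRange_index (fun i => by simp), Finsupp.sum]
      simp [TensorProduct.tmul_sub, Finset.sum_sub_distrib, h])
    have h1 := DFunLike.congr_fun h0 i
    rw [Finsupp.mapRange_apply, Finsupp.coe_zero, Pi.zero_apply, sub_eq_zero] at h1
    exact h1
  choose r hr using fun i => Algebra.mem_bot.1 (Algebra.IsCentral.out (hc i))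
  refine Algebra.mem_bot.2 ⟨∑ i ∈ c.support, r i • e i, ?_⟩
  rw [Algebra.TensorProduct.algebraMap_apply, Finsupp.sum, map_sum, TensorProduct.sum_tmul]
  refine Finset.sum_congr rfl fun i _ => ?_
  rw [← hr i, Algebra.algebraMap_eq_smul_one (R := k), ← TensorProduct.smul_tmul]
  rfl

end BaseChange

end CSALib
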