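import Groth.Agent.CSALib.Modules

/-!
# Cancellation of matrix algebras, automorphisms of matrix algebras
-/

set_option autoImplicit false

universe u v w

open scoped TensorProduct

namespace CSALib

variable {k : Type u} [Field k]
variable {n : Type} [Fintype n] [DecidableEq n] [Nonempty n]

omit [Nonempty n] in
/-- Scalar matrices are those commuting with every matrix over `k`. -/
theorem mem_range_scalar_of_commute_map {A : Type v} [Ring A] [Algebra k A] (M : Matrix n n A)
    (h : ∀ X : Matrix n n k, Commute ((Algebra.ofId k A).mapMatrix X) M) :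
    M ∈ Set.range (Matrix.scalar n) := by
  refine Matrix.mem_range_scalar_of_commute_single fun i j _ => ?_
  have h1 : (Algebra.ofId k A).mapMatrix (Matrix.single i j (1 : k)) = Matrix.single i j (1 : A) := by
    ext a b
    simp [Matrix.single_apply]
  change Commute (Matrix.single i j 1) M
  rw [← h1]
  exact h _

omit [Nonempty n] in
theorem commute_map_scalar {A : Type v} [Ring A] [Algebra k A] (X : Matrix n n k) (a : A) :
    Commute ((Algebra.ofId k A).mapMatrix X) (Matrix.scalar n a) := by
  refine (Matrix.scalar_commute_iff.2 ?_).symm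
  ext i j
  exact (Algebra.commutes (X i j) a).symm

/-- Matrix cancellation for central simple algebras. -/
theorem nonempty_algEquiv_of_matrix (A : Type v) [Ring A] [Algebra k A] (A' : Type w) [Ring A']
    [Algebra k A'] [Algebra.IsCentral k A'] [IsSimpleRing A'] [FiniteDimensional k A']
    (e : Matrix n n A ≃ₐ[k] Matrix n n A') : Nonempty (A ≃ₐ[k] A') := by
  obtain ⟨u, hu⟩ := skolemNoether (k := k) (A := Matrix n n A') (B := Matrix n n k)
    (e.toAlgHom.comp (Algebra.ofId k A).mapMatrix) (Algebra.ofId k A').mapMatrix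
  let φ : Matrix n n A ≃ₐ[k] Matrix n n A' :=
    e.trans (MulSemiringAction.toAlgEquiv k (Matrix n n A') (ConjAct.toConjAct u))
  have hφ : ∀ M, φ M = (u : Matrix n n A') * e M * (u⁻¹ : (Matrix n n A')ˣ) := fun M => rfl
  have hfix : ∀ X, φ ((Algebra.ofId k A).mapMatrix X) = (Algebra.ofId k A').mapMatrix X := fun X => by
    rw [hu X, hφ]
    rfl
  have h1 : ∀ a : A, φ (Matrix.scalar n a) ∈ Set.range (Matrix.scalar n) := fun a => by
    refine mem_range_scalar_of_commute_map (k := k) _ fun X => ?_
    rw [← hfix]
    exact (commute_map_scalar X a).map φ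
  have h2 : ∀ a : A', φ.symm (Matrix.scalar n a) ∈ Set.range (Matrix.scalar n) := fun a => by
    refine mem_range_scalar_of_commute_map (k := k) _ fun X => ?_
    have : (Algebra.ofId k A).mapMatrix X = φ.symm ((Algebra.ofId k A').mapMatrix X) := by
      rw [← hfix, AlgEquiv.symm_apply_apply]
    rw [this]
    exact (commute_map_scalar X a).map φ.symm
  obtain ⟨i⟩ := ‹Nonempty n›
  let ψ : A →ₐ[k] A' :=
    { toFun := fun a => φ (Matrix.scalar n a) i i
      map_one' := by simp [Matrix.one_apply_eq]
      map_mul' := fun a b => by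
        obtain ⟨x, hx⟩ := h1 a
        obtain ⟨y, hy⟩ := h1 b
        rw [map_mul, map_mul, ← hx, ← hy]
        simp
      map_zero' := by simp
      map_add' := fun a b => by rw [map_add, map_add, Matrix.add_apply]
      commutes' := fun r => by
        rw [show Matrix.scalar n (algebraMap k A r) = algebraMap k (Matrix n n A) r from rfl,
          φ.commutes, Matrix.algebraMap_matrix_apply, if_pos rfl] }
  have hψ : ∀ a, φ (Matrix.scalar n a) = Matrix.scalar n (ψ a) := fun a => by
    obtain ⟨x, hx⟩ := h1 a
    change φ (Matrix.scalar n a) = Matrix.scalar n (φ (Matrix.scalar n a) i i)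
    rw [← hx]
    simp
  refine ⟨AlgEquiv.ofBijective ψ ⟨fun a b hab => ?_, fun b => ?_⟩⟩
  · have : φ (Matrix.scalar n a) = φ (Matrix.scalar n b) := by rw [hψ, hψ, hab]
    exact (Matrix.scalar_inj (n := n)).1 (φ.injective this)
  · obtain ⟨a, ha⟩ := h2 b
    refine ⟨a, (Matrix.scalar_inj (n := n)).1 ?_⟩
    rw [← hψ, ha, φ.apply_symm_apply]

end CSALib
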