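import Groth.Agent.CSALib.Split
import Groth.Agent.CSALib.Cancel

/-!
# The Brauer group of a field
-/

set_option autoImplicit false

universe u v w x y

open scoped TensorProduct

namespace CSALib

variable (k : Type u) [Field k]

/-- Brauer equivalence. -/
def BrEq (A : Type v) [Ring A] [Algebra k A] (B : Type w) [Ring B] [Algebra k B] : Prop :=
  ∃ n m : ℕ, n ≠ 0 ∧ m ≠ 0 ∧ Nonempty (Matrix (Fin n) (Fin n) A ≃ₐ[k] Matrix (Fin m) (Fin m) B)

variable {k} {A : Type v} [Ring A] [Algebra k A] {B : Type w} [Ring B] [Algebra k B]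
  {C : Type x} [Ring C] [Algebra k C]

variable (k A) in
/-- Matrices of matrices. -/
noncomputable def matMat (p n : ℕ) :
    Matrix (Fin p) (Fin p) (Matrix (Fin n) (Fin n) A) ≃ₐ[k] Matrix (Fin (p * n)) (Fin (p * n)) A :=
  (Matrix.compAlgEquiv (Fin p) (Fin n) A k).trans (Matrix.reindexAlgEquiv k A finProdFinEquiv)

theorem BrEq.of_equiv (e : A ≃ₐ[k] B) : BrEq k A B := ⟨1, 1, one_ne_zero, one_ne_zero, ⟨e.mapMatrix⟩⟩

theorem BrEq.symm (h : BrEq k A B) : BrEq k B A := by
  obtain ⟨n, m, hn, hm, ⟨e⟩⟩ := h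
  exact ⟨m, n, hm, hn, ⟨e.symm⟩⟩

theorem BrEq.trans (h : BrEq k A B) (h' : BrEq k B C) : BrEq k A C := by
  obtain ⟨n, m, hn, hm, ⟨e⟩⟩ := h
  obtain ⟨p, q, hp, hq, ⟨f⟩⟩ := h'
  refine ⟨p * n, m * q, mul_ne_zero hp hn, mul_ne_zero hm hq, ⟨(matMat k A p n).symm.trans ?_⟩⟩
  refine e.mapMatrix.trans ((matMat k B p m).trans ?_)
  refine (Matrix.reindexAlgEquiv k B (finCongr (mul_comm p m))).trans ((matMat k B m p).symm.trans ?_)
  exact f.mapMatrix.trans (matMat k C m q)

theorem BrEq.of_matrix {n : ℕ} (hn : n ≠ 0) (e : A ≃ₐ[k] Matrix (Fin n) (Fin n) B) : BrEq k A B :=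
  ⟨1, 1 * n, one_ne_zero, mul_ne_zero one_ne_zero hn, ⟨e.mapMatrix.trans (matMat k B 1 n)⟩⟩

theorem BrEq.tensor {B' : Type y} [Ring B'] [Algebra k B'] {A' : Type x} [Ring A'] [Algebra k A']
    (h : BrEq k A B) (h' : BrEq k A' B') : BrEq k (A ⊗[k] A') (B ⊗[k] B') := by
  obtain ⟨n, m, hn, hm, ⟨e⟩⟩ := h
  obtain ⟨p, q, hp, hq, ⟨f⟩⟩ := h'
  refine ⟨n * p, m * q, mul_ne_zero hn hp, mul_ne_zero hm hq, ⟨?_⟩⟩
  refine (Matrix.reindexAlgEquiv k _ finProdFinEquiv.symm).trans ?_
  refine (Matrix.kroneckerTMulAlgEquiv (Fin n) (Fin p) k k A A').symm.trans ?_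
  refine (Algebra.TensorProduct.congr e f).trans ?_
  exact (Matrix.kroneckerTMulAlgEquiv (Fin m) (Fin q) k k B B').trans
    (Matrix.reindexAlgEquiv k _ finProdFinEquiv)

theorem nonempty_algEquiv_of_brEq [Algebra.IsCentral k B] [IsSimpleRing B] [FiniteDimensional k A]
    [FiniteDimensional k B] (h : BrEq k A B) (hd : Module.finrank k A = Module.finrank k B) :
    Nonempty (A ≃ₐ[k] B) := by
  obtain ⟨n, m, hn, hm, ⟨e⟩⟩ := h
  have := e.toLinearEquiv.finrank_eq
  rw [Module.finrank_matrix, Module.finrank_matrix, Fintype.card_fin, Fintype.card_fin, hd] at this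
  have hB : 0 < Module.finrank k B := Module.finrank_pos
  obtain rfl := Nat.mul_self_inj.1 (Nat.eq_of_mul_eq_mul_right hB this)
  have : NeZero n := ⟨hn⟩
  exact nonempty_algEquiv_of_matrix A B e

theorem brEq_self_iff [Algebra.IsCentral k A] [IsSimpleRing A] [FiniteDimensional k A] :
    BrEq k A k ↔ ∃ n : ℕ, n ≠ 0 ∧ Nonempty (A ≃ₐ[k] Matrix (Fin n) (Fin n) k) := by
  refine ⟨fun h => ?_, fun ⟨n, hn, ⟨e⟩⟩ => .of_matrix hn e⟩
  obtain ⟨m, D, _, _, hm, _, _, ⟨e⟩⟩ := wedderburn (k := k) A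
  obtain ⟨n, p, hn, hp, ⟨f⟩⟩ := ((BrEq.of_matrix hm.ne' e).symm.trans h)
  have : NeZero n := ⟨hn⟩
  have : NeZero p := ⟨hp⟩
  obtain rfl := size_eq f
  exact ⟨m, hm.ne', ⟨e.trans (nonempty_algEquiv_of_matrix D k f).some.mapMatrix⟩⟩

theorem splits_self_iff [Algebra.IsCentral k A] [IsSimpleRing A] [FiniteDimensional k A] :
    Curves.Splits k A k ↔ BrEq k A k := by
  rw [brEq_self_iff]
  exact ⟨fun ⟨n, hn, ⟨e⟩⟩ => ⟨n, hn, ⟨(Algebra.TensorProduct.lid k A).symm.trans e⟩⟩,
    fun ⟨n, hn, ⟨e⟩⟩ => ⟨n, hn, ⟨(Algebra.TensorProduct.lid k A).trans e⟩⟩⟩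

theorem brEq_tensor_op [Algebra.IsCentral k A] [IsSimpleRing A] [FiniteDimensional k A] :
    BrEq k (A ⊗[k] Aᵐᵒᵖ) k := by
  have : NeZero (Module.finrank k A) := ⟨Module.finrank_pos.ne'⟩
  exact BrEq.of_matrix Module.finrank_pos.ne'
    (equivOfHom ((algEquivMatrix (Module.finBasis k A)).toAlgHom.comp (AlgHom.mulLeftRight k A)) (by
      rw [Module.finrank_tensorProduct, ← (MulOpposite.opLinearEquiv k).finrank_eq,
        finrank_matrix_self, sq]))

variable (k) in
/-- Central simple subalgebras of matrix algebras over `k`. -/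
abbrev BrRep : Type u :=
  {p : Σ N : ℕ, Subalgebra k (Matrix (Fin N) (Fin N) k) // Algebra.IsCentral k p.2 ∧ IsSimpleRing p.2}

instance (a : BrRep k) : Algebra.IsCentral k a.1.2 := a.2.1
instance (a : BrRep k) : IsSimpleRing a.1.2 := a.2.2

instance brSetoid : Setoid (BrRep k) where
  r a b := BrEq k a.1.2 b.1.2
  iseqv := ⟨fun _ => .of_equiv AlgEquiv.refl, BrEq.symm, BrEq.trans⟩

variable (k) in
/-- The Brauer group. -/
def Br : Type u := Quotient (brSetoid (k := k))

section Cl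

variable (k A) [Algebra.IsCentral k A] [IsSimpleRing A] [FiniteDimensional k A]

/-- The left regular copy of an algebra. -/
noncomputable def regEquiv :
    A ≃ₐ[k] (Algebra.leftMulMatrix (Module.finBasis k A)).range :=
  AlgEquiv.ofInjective _ (Algebra.leftMulMatrix_injective _)

/-- The class of a central simple algebra. -/
noncomputable def cl : Br k :=
  Quotient.mk _ ⟨⟨_, (Algebra.leftMulMatrix (Module.finBasis k A)).range⟩,
    central_of_equiv (regEquiv k A), simple_of_equiv (regEquiv k A)⟩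

variable {k A}

theorem cl_eq_iff [Algebra.IsCentral k B] [IsSimpleRing B] [FiniteDimensional k B] :
    cl k A = cl k B ↔ BrEq k A B :=
  ⟨fun h => ((BrEq.of_equiv (regEquiv k A)).trans (Quotient.exact h)).trans
      (BrEq.of_equiv (regEquiv k B).symm),
    fun h => Quotient.sound (((BrEq.of_equiv (regEquiv k A).symm).trans h).trans
      (BrEq.of_equiv (regEquiv k B)))⟩

end Cl

theorem cl_congr [Algebra.IsCentral k A] [IsSimpleRing A] [FiniteDimensional k A]
    [Algebra.IsCentral k B] [IsSimpleRing B] [FiniteDimensional k B] (e : A ≃ₐ[k] B) :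
    cl k A = cl k B := cl_eq_iff.2 (.of_equiv e)

theorem mk_eq_cl (a : BrRep k) : (⟦a⟧ : Br k) = cl k a.1.2 :=
  Quotient.sound (BrEq.of_equiv (regEquiv k a.1.2))

noncomputable instance : Mul (Br k) := ⟨Quotient.lift₂ (fun a b => cl k (a.1.2 ⊗[k] b.1.2))
  fun _ _ _ _ ha hb => cl_eq_iff.2 (BrEq.tensor ha hb)⟩

theorem cl_tensor [Algebra.IsCentral k A] [IsSimpleRing A] [FiniteDimensional k A]
    [Algebra.IsCentral k B] [IsSimpleRing B] [FiniteDimensional k B] :
    cl k A * cl k B = cl k (A ⊗[k] B) := by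
  have := central_of_equiv (regEquiv k A)
  have := simple_of_equiv (regEquiv k A)
  have := central_of_equiv (regEquiv k B)
  have := simple_of_equiv (regEquiv k B)
  change cl k ((Algebra.leftMulMatrix (Module.finBasis k A)).range ⊗[k]
    (Algebra.leftMulMatrix (Module.finBasis k B)).range) = _
  exact cl_eq_iff.2 (BrEq.tensor (.of_equiv (regEquiv k A).symm) (.of_equiv (regEquiv k B).symm))

noncomputable instance : One (Br k) := ⟨cl k k⟩

theorem one_def : (1 : Br k) = cl k k := rfl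

noncomputable instance : Inv (Br k) := ⟨Quotient.lift (fun a => cl k (a.1.2)ᵐᵒᵖ) fun a b h => by
  obtain ⟨n, m, hn, hm, ⟨e⟩⟩ := h
  exact cl_eq_iff.2 ⟨n, m, hn, hm, ⟨AlgEquiv.mopMatrix.trans
    ((AlgEquiv.op e).trans AlgEquiv.mopMatrix.symm)⟩⟩⟩

theorem induction_cl {P : Br k → Prop} (h : ∀ (X : Type u) [Ring X] [Algebra k X]
    [Algebra.IsCentral k X] [IsSimpleRing X] [FiniteDimensional k X], P (cl k X)) (x : Br k) : P x := by
  obtain ⟨a, rfl⟩ := Quotient.exists_rep x
  exact (mk_eq_cl a).symm ▸ h a.1.2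

theorem inv_cl [Algebra.IsCentral k A] [IsSimpleRing A] [FiniteDimensional k A]
    [Algebra.IsCentral k Aᵐᵒᵖ] : (cl k A)⁻¹ = cl k Aᵐᵒᵖ := by
  have := central_of_equiv (regEquiv k A)
  have := simple_of_equiv (regEquiv k A)
  change cl k (Algebra.leftMulMatrix (Module.finBasis k A)).rangeᵐᵒᵖ = _
  exact cl_congr (AlgEquiv.op (regEquiv k A).symm)

noncomputable instance : CommGroup (Br k) where
  mul_assoc a b c := by
    induction a using induction_cl with | h X => ?_
    induction b using induction_cl with | h Y => ?_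
    induction c using induction_cl with | h Z => ?_
    rw [cl_tensor, cl_tensor, cl_tensor, cl_tensor]
    exact cl_congr (Algebra.TensorProduct.assoc k k k X Y Z)
  one_mul a := by
    induction a using induction_cl with | h X => ?_
    rw [one_def, cl_tensor]
    exact cl_congr (Algebra.TensorProduct.lid k X)
  mul_one a := by
    induction a using induction_cl with | h X => ?_
    rw [one_def, cl_tensor]
    exact cl_congr (Algebra.TensorProduct.rid k k X)
  inv_mul_cancel a := by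
    induction a using induction_cl with | h X => ?_
    rw [inv_cl, cl_tensor, one_def, cl_eq_iff]
    exact (BrEq.of_equiv (Algebra.TensorProduct.comm k Xᵐᵒᵖ X)).trans brEq_tensor_op
  mul_comm a b := by
    induction a using induction_cl with | h X => ?_
    induction b using induction_cl with | h Y => ?_
    rw [cl_tensor, cl_tensor]
    exact cl_congr (Algebra.TensorProduct.comm k X Y)

theorem cl_eq_one_iff [Algebra.IsCentral k A] [IsSimpleRing A] [FiniteDimensional k A] :
    cl k A = 1 ↔ Curves.Splits k A k := by rw [one_def, cl_eq_iff, splits_self_iff]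

theorem cl_matrix [Algebra.IsCentral k A] [IsSimpleRing A] [FiniteDimensional k A]
    [Algebra.IsCentral k B] [IsSimpleRing B] [FiniteDimensional k B] {n : ℕ} (hn : n ≠ 0)
    (e : A ≃ₐ[k] Matrix (Fin n) (Fin n) B) : cl k A = cl k B :=
  cl_eq_iff.2 (.of_matrix hn e)

end CSALib
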