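import Groth.Agent.CSALib.Period

/-!
# Cyclic algebras
-/

set_option autoImplicit false

universe u v w x

open scoped TensorProduct

namespace CSALib

variable {k : Type u} [Field k] {K : Type v} [Field K] [Algebra k K]

theorem orderOf_eq_finrank [FiniteDimensional k K] [IsGalois k K] {σ : K ≃ₐ[k] K}
    (hσ : ∀ τ : K ≃ₐ[k] K, τ ∈ Subgroup.zpowers σ) : orderOf σ = Module.finrank k K := by
  rw [orderOf_eq_card_of_forall_mem_zpowers hσ, IsGalois.card_aut_eq_finrank]

theorem comm_pow {B : Type w} [Ring B] (ι : K →+* B) (y : B) (σ : K ≃ₐ[k] K)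
    (hcomm : ∀ x, ι x * y = y * ι (σ x)) (i : ℕ) (x : K) : ι x * y ^ i = y ^ i * ι ((σ ^ i) x) := by
  induction i generalizing x with
  | zero => simp
  | succ i ih =>
    rw [pow_succ, ← mul_assoc, ih, mul_assoc, hcomm, ← mul_assoc]
    congr 2
    rw [pow_succ']
    rfl

/-- Independence of the powers of `y` over `K`. -/
theorem coeff_eq_zero [FiniteDimensional k K] [IsGalois k K] {σ : K ≃ₐ[k] K}
    (hσ : ∀ τ : K ≃ₐ[k] K, τ ∈ Subgroup.zpowers σ) {B : Type w} [Ring B] [Nontrivial B]
    (ι : K →+* B) {y : B} (hy : IsUnit y) (hcomm : ∀ x, ι x * y = y * ι (σ x))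
    (c : Fin (Module.finrank k K) → K) (h : ∑ i, y ^ i.val * ι (c i) = 0) : c = 0 := by
  classical
  suffices ∀ (N : ℕ) (c : Fin (Module.finrank k K) → K),
      (Finset.univ.filter fun i => c i ≠ 0).card ≤ N → ∑ i, y ^ i.val * ι (c i) = 0 → c = 0 from
    this _ c le_rfl h
  intro N
  induction N with
  | zero =>
    intro c hc _
    funext i
    by_contra hi
    have : i ∈ Finset.univ.filter fun i => c i ≠ 0 := Finset.mem_filter.2 ⟨Finset.mem_univ _, hi⟩
    simp [Finset.card_eq_zero.1 (Nat.le_zero.1 hc)] at this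
  | succ N ih =>
    intro c hc hsum
    by_contra hne
    obtain ⟨i₀, hi₀⟩ := Function.ne_iff.1 hne
    have key : ∀ x : K, (fun i : Fin (Module.finrank k K) =>
        ((σ ^ i.val) x - (σ ^ i₀.val) x) * c i) = 0 := fun x => by
      refine ih _ (Nat.le_of_lt_succ (lt_of_lt_of_le (Finset.card_lt_card ?_) hc)) ?_
      · refine Finset.ssubset_iff_subset_ne.2 ⟨fun i => by simp, fun he => ?_⟩
        have : i₀ ∈ Finset.univ.filter fun i => c i ≠ 0 := by simpa using hi₀
        rw [← he] at this
        simp at this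
      · have e1 : ∀ i : Fin (Module.finrank k K), y ^ i.val * ι (((σ ^ i.val) x - (σ ^ i₀.val) x) * c i) =
            ι x * (y ^ i.val * ι (c i)) - y ^ i.val * ι (c i) * ι ((σ ^ i₀.val) x) := fun i => by
          rw [← mul_assoc, comm_pow ι y σ hcomm, mul_assoc, mul_assoc, ← map_mul, ← map_mul,
            ← mul_sub, ← map_sub]
          congr 2
          ring
        rw [Finset.sum_congr rfl fun i _ => e1 i, Finset.sum_sub_distrib, ← Finset.mul_sum,
          ← Finset.sum_mul, hsum, mul_zero, zero_mul, sub_zero]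
    have honly : ∀ i, i ≠ i₀ → c i = 0 := fun i hi => by
      by_contra hci
      apply hi
      refine Fin.ext ((pow_injOn_Iio_orderOf (x := σ)) ?_ ?_ (AlgEquiv.ext fun x => ?_))
      · rw [Set.mem_Iio, orderOf_eq_finrank hσ]; exact i.isLt
      · rw [Set.mem_Iio, orderOf_eq_finrank hσ]; exact i₀.isLt
      · have := congrFun (key x) i
        rw [Pi.zero_apply, mul_eq_zero, sub_eq_zero] at this
        exact this.resolve_right hci
    rw [Fintype.sum_eq_single i₀ (fun i hi => by rw [honly i hi, map_zero, mul_zero]),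
      (hy.pow _).mul_right_eq_zero, map_eq_zero] at hsum
    exact hi₀ hsum

/-- The generators and relations of a cyclic algebra. -/
structure CycData (σ : K ≃ₐ[k] K) (b : kˣ) (A : Type w) [Ring A] [Algebra k A] (ι : K →ₐ[k] A)
    (y : A) : Prop where
  pow : y ^ Module.finrank k K = algebraMap k A (b : k)
  comm : ∀ x : K, ι x * y = y * ι (σ x)
  dim : Module.finrank k A = Module.finrank k K ^ 2

theorem exists_cycData {σ : K ≃ₐ[k] K} {b : kˣ} {A : Type w} [Ring A] [Algebra k A]
    (h : CSAGal.IsCyclicAlg k K σ b A) : ∃ ι y, CycData σ b A ι y :=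
  let ⟨ι, y, h1, h2, _, _, h5⟩ := h
  ⟨ι, y, h1, h2, h5⟩

section Data

variable [FiniteDimensional k K] [IsGalois k K] {σ : K ≃ₐ[k] K}
  (hσ : ∀ τ : K ≃ₐ[k] K, τ ∈ Subgroup.zpowers σ) {b : kˣ} {A : Type w} [Ring A] [Algebra k A]
  {ι : K →ₐ[k] A} {y : A} (d : CycData σ b A ι y)

omit [IsGalois k K] in
include d in
theorem CycData.finite : FiniteDimensional k A :=
  Module.finite_of_finrank_pos (by rw [d.dim]; exact pow_pos Module.finrank_pos 2)

omit [IsGalois k K] in
include d in
theorem CycData.nontrivial : Nontrivial A :=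
  Module.nontrivial_of_finrank_pos (R := k) (by rw [d.dim]; exact pow_pos Module.finrank_pos 2)

omit [IsGalois k K] in
include d in
theorem CycData.isUnit : IsUnit y :=
  (isUnit_pow_iff Module.finrank_pos.ne').1 (d.pow ▸ b.isUnit.map (algebraMap k A))

/-- The normal form. -/
noncomputable def normalForm (ι : K →ₐ[k] A) (y : A) : (Fin (Module.finrank k K) → K) →ₗ[k] A :=
  ∑ i : Fin (Module.finrank k K),
    (LinearMap.mulLeft k (y ^ i.val)).comp (ι.toLinearMap.comp (LinearMap.proj i))

omit [FiniteDimensional k K] [IsGalois k K] in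
theorem normalForm_apply (ι : K →ₐ[k] A) (y : A) (c : Fin (Module.finrank k K) → K) :
    normalForm ι y c = ∑ i, y ^ i.val * ι (c i) := by
  simp [normalForm]

include hσ d in
theorem CycData.bijective : Function.Bijective (normalForm ι y) := by
  have := d.nontrivial
  have := d.finite
  have hinj : Function.Injective (normalForm ι y) := (injective_iff_map_eq_zero _).2 fun c hc =>
    coeff_eq_zero hσ ι.toRingHom d.isUnit d.comm c ((normalForm_apply ι y c).symm.trans hc)
  refine ⟨hinj, (LinearMap.injective_iff_surjective_of_finrank_eq_finrank ?_).1 hinj⟩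
  rw [Module.finrank_pi_fintype, Finset.sum_const, Finset.card_univ, Fintype.card_fin, smul_eq_mul,
    d.dim, sq]

include hσ d in
theorem CycData.induction {P : A → Prop} (hzero : P 0) (hadd : ∀ a a', P a → P a' → P (a + a'))
    (hgen : ∀ (i : Fin (Module.finrank k K)) (c : K), P (y ^ i.val * ι c)) (a : A) : P a := by
  obtain ⟨c, rfl⟩ := (d.bijective hσ).2 a
  rw [normalForm_apply]
  exact Finset.sum_induction _ P hadd hzero fun i _ => hgen i _

include hσ d in
theorem CycData.adjoin_eq_top : Algebra.adjoin k (Set.range ι ∪ {y}) = ⊤ :=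
  Algebra.eq_top_iff.2 fun a => by
    induction a using d.induction hσ with
    | hzero => exact Subalgebra.zero_mem _
    | hadd p q hp hq => exact Subalgebra.add_mem _ hp hq
    | hgen i c =>
      exact Subalgebra.mul_mem _ (Subalgebra.pow_mem _ (Algebra.subset_adjoin (R := k) (s := Set.range ι ∪ {y}) (Or.inr rfl)) _)
        (Algebra.subset_adjoin (R := k) (s := Set.range ι ∪ {y}) (Or.inl ⟨c, rfl⟩))

include hσ d in
theorem CycData.isCyclicAlg : CSAGal.IsCyclicAlg k K σ b A :=
  ⟨ι, y, d.pow, d.comm, d.adjoin_eq_top hσ, Module.finrank_pos, d.dim⟩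

include hσ d in
theorem CycData.simple : IsSimpleRing A := by
  have := d.nontrivial
  refine IsSimpleRing.of_eq_bot_or_eq_top fun I => or_iff_not_imp_right.2 fun hI => ?_
  let π : A →+* I.ringCon.Quotient := I.ringCon.mk'
  have hπ : ∀ z, π z = 0 ↔ z ∈ I := fun z => by
    rw [← π.map_zero]
    exact (RingCon.eq _).trans (TwoSidedIdeal.mem_iff I z).symm
  have : Nontrivial I.ringCon.Quotient := ⟨π 1, 0, fun h => hI ((TwoSidedIdeal.one_mem_iff I).1 ((hπ 1).1 h))⟩
  refine eq_bot_iff.2 fun z hz => ?_
  obtain ⟨c, rfl⟩ := (d.bijective hσ).2 z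
  have : c = 0 := coeff_eq_zero hσ (π.comp ι.toRingHom) (d.isUnit.map π)
    (fun x => by
      change π (ι x) * π y = π y * π (ι (σ x))
      rw [← map_mul, d.comm, map_mul]) c (by
      have h0 := (hπ _).2 hz
      rw [normalForm_apply, map_sum] at h0
      simpa [map_mul, map_pow] using h0)
  rw [this, map_zero]
  exact (⊥ : TwoSidedIdeal A).zero_mem

include hσ d in
theorem CycData.central : Algebra.IsCentral k A := by
  refine ⟨fun z hz => ?_⟩
  rw [Subalgebra.mem_center_iff] at hz
  obtain ⟨c, rfl⟩ := (d.bijective hσ).2 z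
  have key : ∀ x : K, (fun i : Fin (Module.finrank k K) => ((σ ^ i.val) x - x) * c i) = 0 := fun x => by
    refine (d.bijective hσ).1 ?_
    rw [normalForm_apply, map_zero]
    have h := hz (ι x)
    rw [normalForm_apply, Finset.mul_sum, Finset.sum_mul, ← sub_eq_zero, ← Finset.sum_sub_distrib] at h
    refine Eq.trans (Finset.sum_congr rfl fun i _ => ?_) h
    rw [← mul_assoc, show ι x * y ^ i.val = y ^ i.val * ι ((σ ^ i.val) x) from
      comm_pow ι.toRingHom y σ d.comm i.val x, mul_assoc, mul_assoc, ← map_mul, ← map_mul,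
      ← mul_sub, ← map_sub]
    congr 2
    ring
  let i₀ : Fin (Module.finrank k K) := ⟨0, Module.finrank_pos⟩
  have honly : ∀ i, i ≠ i₀ → c i = 0 := fun i hi => by
    by_contra hci
    apply hi
    refine Fin.ext ((pow_injOn_Iio_orderOf (x := σ)) ?_ ?_ (AlgEquiv.ext fun x => ?_))
    · rw [Set.mem_Iio, orderOf_eq_finrank hσ]; exact i.isLt
    · rw [Set.mem_Iio, orderOf_eq_finrank hσ]; exact i₀.isLt
    · have := congrFun (key x) i
      rw [Pi.zero_apply, mul_eq_zero, sub_eq_zero] at this
      exact this.resolve_right hci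
  have hz0 : normalForm ι y c = ι (c i₀) := by
    rw [normalForm_apply, Fintype.sum_eq_single i₀ fun i hi => by rw [honly i hi, map_zero, mul_zero]]
    simp [i₀]
  have hfix : σ (c i₀) = c i₀ := by
    have := d.nontrivial
    have h := hz y
    rw [hz0, d.comm] at h
    exact ι.toRingHom.injective ((d.isUnit.mul_right_inj.1 h).symm)
  obtain ⟨r, hr⟩ := (IsGalois.mem_range_algebraMap_iff_fixed (F := k) (c i₀)).2 fun τ => by
    obtain ⟨i, rfl⟩ := Subgroup.mem_zpowers_iff.1 (hσ τ)
    exact MulAction.mem_stabilizer_iff.1 (Subgroup.zpow_mem (MulAction.stabilizer (K ≃ₐ[k] K) (c i₀))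
      (MulAction.mem_stabilizer_iff.2 hfix) i)
  exact Algebra.mem_bot.2 ⟨r, by rw [hz0, ← hr, ι.commutes]⟩

include hσ d in
theorem CycData.splits : Curves.Splits k A K := by
  have := d.simple hσ
  have := d.central hσ
  have := d.finite
  exact splits_of_subfield ι d.dim

include hσ d in
theorem CycData.exists_hom {B : Type x} [Ring B] [Algebra k B] (ι' : K →ₐ[k] B) (y' : B)
    (hpow : y' ^ Module.finrank k K = algebraMap k B (b : k))
    (hcomm : ∀ x, ι' x * y' = y' * ι' (σ x)) :
    ∃ f : A →ₐ[k] B, (∀ x, f (ι x) = ι' x) ∧ f y = y' := by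
  let e := LinearEquiv.ofBijective (normalForm ι y) (d.bijective hσ)
  let f : A →ₗ[k] B := (normalForm ι' y').comp e.symm.toLinearMap
  have hf : ∀ c, f (normalForm ι y c) = normalForm ι' y' c := fun c =>
    congrArg (normalForm ι' y') (e.symm_apply_apply c)
  classical
  have hlow : ∀ (i : Fin (Module.finrank k K)) (c : K), f (y ^ i.val * ι c) = y' ^ i.val * ι' c := fun i c => by
    have h2 := hf (Pi.single i c)
    rw [normalForm_apply, normalForm_apply,
      Fintype.sum_eq_single i fun l hl => by rw [Pi.single_eq_of_ne hl, map_zero, mul_zero],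
      Fintype.sum_eq_single i fun l hl => by rw [Pi.single_eq_of_ne hl, map_zero, mul_zero]] at h2
    simpa using h2
  have hall : ∀ (n : ℕ) (c : K), f (y ^ n * ι c) = y' ^ n * ι' c := fun n c => by
    conv_lhs => rw [← Nat.div_add_mod n (Module.finrank k K)]
    conv_rhs => rw [← Nat.div_add_mod n (Module.finrank k K)]
    rw [pow_add, pow_add, pow_mul, pow_mul, d.pow, hpow, ← map_pow, ← map_pow, mul_assoc, mul_assoc,
      ← Algebra.smul_def, ← Algebra.smul_def, map_smul,
      hlow ⟨n % Module.finrank k K, Nat.mod_lt _ Module.finrank_pos⟩ c]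
  have h1 : f 1 = 1 := by simpa using hall 0 1
  refine ⟨AlgHom.ofLinearMap f h1 fun a a' => ?_, fun x => by simpa using hall 0 x,
    by simpa using hall 1 1⟩
  induction a using d.induction hσ with
  | hzero => simp
  | hadd p q hp hq => rw [add_mul, map_add, map_add, hp, hq, add_mul]
  | hgen i c =>
    induction a' using d.induction hσ with
    | hzero => simp
    | hadd p q hp hq => rw [mul_add, map_add, map_add, hp, hq, mul_add]
    | hgen j c' =>
      have e2 : ι c * (y ^ j.val * ι c') = y ^ j.val * ι ((σ ^ j.val) c * c') := by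
        rw [← mul_assoc, show ι c * y ^ j.val = y ^ j.val * ι ((σ ^ j.val) c) from
          comm_pow ι.toRingHom y σ d.comm j.val c, mul_assoc, ← map_mul]
      have e3 : ι' c * (y' ^ j.val * ι' c') = y' ^ j.val * ι' ((σ ^ j.val) c * c') := by
        rw [← mul_assoc, show ι' c * y' ^ j.val = y' ^ j.val * ι' ((σ ^ j.val) c) from
          comm_pow ι'.toRingHom y' σ hcomm j.val c, mul_assoc, ← map_mul]
      rw [hall, hall, mul_assoc (y ^ i.val), e2, mul_assoc (y' ^ i.val), e3, ← mul_assoc, ← pow_add,
        hall, ← mul_assoc, ← pow_add]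

end Data

end CSALib
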