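import Groth.Agent.CSALib.Cyclic

/-!
# The matrix model of a cyclic algebra, multiplicativity, norm criterion
-/

set_option autoImplicit false

universe u v w x

open scoped TensorProduct Matrix

namespace CSALib

section Cmat

variable {R : Type w} [CommRing R] {m : ℕ} [NeZero m]

/-- The twisted shift matrix. -/
def cmat (m : ℕ) (b : R) : Matrix (Fin m) (Fin m) R :=
  Matrix.of fun i j => if j.val + 1 = i.val then 1 else if i.val = 0 ∧ j.val + 1 = m then b else 0

/-- Its nonzero entries. -/
def cwt (b : R) (i : Fin m) : R := if i = 0 then b else 1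

theorem val_add_one (j : Fin m) : (j + 1 : Fin m).val = if j.val + 1 = m then 0 else j.val + 1 := by
  rw [Fin.val_add, Fin.val_one', Nat.add_mod_mod]
  split_ifs with h
  · rw [h, Nat.mod_self]
  · exact Nat.mod_eq_of_lt (by omega)

theorem cmat_apply (b : R) (i j : Fin m) : cmat m b i j = if i = j + 1 then cwt b i else 0 := by
  have hi := i.isLt
  have hj := j.isLt
  simp only [cmat, Matrix.of_apply, cwt, Fin.ext_iff, val_add_one, Fin.val_zero]
  split_ifs <;> first | rfl | omega

theorem cmat_mul (b : R) (M : Matrix (Fin m) (Fin m) R) (i j : Fin m) :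
    (cmat m b * M) i j = cwt b i * M (i - 1) j := by
  rw [Matrix.mul_apply, Finset.sum_eq_single (i - 1)]
  · rw [cmat_apply, if_pos (sub_add_cancel i 1).symm]
  · intro l _ hl
    rw [cmat_apply, if_neg fun h => hl (eq_sub_of_add_eq h.symm), zero_mul]
  · simp

theorem mul_cmat (b : R) (M : Matrix (Fin m) (Fin m) R) (i j : Fin m) :
    (M * cmat m b) i j = M i (j + 1) * cwt b (j + 1) := by
  rw [Matrix.mul_apply, Finset.sum_eq_single (j + 1)]
  · rw [cmat_apply, if_pos rfl]
  · intro l _ hl
    rw [cmat_apply, if_neg hl, mul_zero]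
  · simp

theorem cmat_mulVec_single (b : R) (j : Fin m) :
    cmat m b *ᵥ Pi.single j 1 = cwt b (j + 1) • Pi.single (j + 1) 1 := by
  ext i
  rw [Matrix.mulVec_single_one, Matrix.col_apply, cmat_apply, Pi.smul_apply, Pi.single_apply, smul_eq_mul]
  split_ifs with h
  · rw [h, mul_one]
  · rw [mul_zero]

theorem cmat_pow_single (b : R) (l : ℕ) (hl : l < m) :
    cmat m b ^ l *ᵥ Pi.single (0 : Fin m) 1 = Pi.single (⟨l, hl⟩ : Fin m) 1 := by
  induction l with
  | zero => rw [pow_zero, Matrix.one_mulVec]; rfl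
  | succ l ih =>
    rw [pow_succ', ← Matrix.mulVec_mulVec, ih (by omega), cmat_mulVec_single]
    have he : (⟨l, by omega⟩ : Fin m) + 1 = ⟨l + 1, hl⟩ := Fin.ext (by
      rw [val_add_one, if_neg (show ¬ l + 1 = m by omega)])
    rw [he, cwt, if_neg (fun h => absurd (congrArg Fin.val h) (Nat.succ_ne_zero l)), one_smul]

theorem cmat_pow (b : R) : cmat m b ^ m = algebraMap R _ b := by
  have h0 : cmat m b ^ m *ᵥ Pi.single (0 : Fin m) 1 = b • Pi.single (0 : Fin m) 1 := by
    obtain ⟨n, rfl⟩ := Nat.exists_eq_succ_of_ne_zero (NeZero.ne m)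
    rw [pow_succ', ← Matrix.mulVec_mulVec, cmat_pow_single b n (Nat.lt_succ_self n), cmat_mulVec_single]
    have he : (⟨n, Nat.lt_succ_self n⟩ : Fin (n + 1)) + 1 = 0 := Fin.ext (by
      rw [val_add_one, if_pos rfl]; rfl)
    rw [he, cwt, if_pos rfl]
  refine Matrix.ext fun i j => ?_
  have hj : cmat m b ^ m *ᵥ Pi.single j 1 = b • Pi.single j 1 := by
    rw [← cmat_pow_single b j.val j.isLt, Matrix.mulVec_mulVec, ← pow_mul_comm, ← Matrix.mulVec_mulVec,
      h0, Matrix.mulVec_smul]
  have := congrFun hj i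
  rw [Matrix.mulVec_single_one, Matrix.col_apply, Pi.smul_apply, Pi.single_apply, smul_eq_mul] at this
  rw [this, Matrix.algebraMap_matrix_apply, Algebra.algebraMap_self, RingHom.id_apply, mul_ite, mul_one,
    mul_zero]

omit [NeZero m] in
theorem map_cmat {S : Type x} [CommRing S] (f : R →+* S) (b : R) :
    (cmat m b).map f = cmat m (f b) := by
  ext i j
  simp only [cmat, Matrix.map_apply, Matrix.of_apply]
  split_ifs <;> simp

end Cmat

variable {k : Type u} [Field k] {K : Type v} [Field K] [Algebra k K]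

instance neZero_finrank [FiniteDimensional k K] : NeZero (Module.finrank k K) :=
  ⟨Module.finrank_pos.ne'⟩

section Model

variable [FiniteDimensional k K] [IsGalois k K] {σ : K ≃ₐ[k] K}
  (hσ : ∀ τ : K ≃ₐ[k] K, τ ∈ Subgroup.zpowers σ)

include hσ in
theorem pow_val_succ (j : Fin (Module.finrank k K)) :
    σ ^ (j + 1 : Fin (Module.finrank k K)).val = σ ^ (j.val + 1) := by
  rw [val_add_one]
  split_ifs with h
  · rw [h, ← orderOf_eq_finrank hσ, pow_orderOf_eq_one, pow_zero]
  · rfl

variable (K) in
/-- The diagonal embedding `x ↦ diag (σ ^ i x)`. -/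
noncomputable def diagEmb (σ : K ≃ₐ[k] K) {C : Type w} [Ring C] [Algebra k C] (j : K →ₐ[k] C) :
    K →ₐ[k] Matrix (Fin (Module.finrank k K)) (Fin (Module.finrank k K)) C :=
  (Matrix.diagonalAlgHom k).comp
    (AlgHom.pi fun i => j.comp ((σ ^ i.val : K ≃ₐ[k] K) : K →ₐ[k] K))

omit [FiniteDimensional k K] [IsGalois k K] in
theorem diagEmb_apply (σ : K ≃ₐ[k] K) {C : Type w} [Ring C] [Algebra k C] (j : K →ₐ[k] C) (x : K) :
    diagEmb K σ j x = Matrix.diagonal fun i => j ((σ ^ i.val) x) := rfl

include hσ in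
/-- The shift matrix normalises the diagonal embedding. -/
theorem diagEmb_mul_cmat {C : Type w} [Ring C] [Algebra k C] (j : K →ₐ[k] C) (b : k) (x : K) :
    diagEmb K σ j x * (Algebra.ofId k C).mapMatrix (cmat (Module.finrank k K) b) =
      (Algebra.ofId k C).mapMatrix (cmat (Module.finrank k K) b) * diagEmb K σ j (σ x) := by
  refine Matrix.ext fun i l => ?_
  rw [diagEmb_apply, diagEmb_apply, Matrix.diagonal_mul, Matrix.mul_diagonal, AlgHom.mapMatrix_apply,
    Matrix.map_apply, cmat_apply]
  split_ifs with h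
  · rw [h, pow_val_succ hσ, pow_succ, Algebra.ofId_apply, ← Algebra.commutes]
    rfl
  · simp

variable (σ) in
/-- The fixed matrix subalgebra. -/
def cycModel (b : k) :
    Subalgebra k (Matrix (Fin (Module.finrank k K)) (Fin (Module.finrank k K)) K) where
  carrier := {M | cmat (Module.finrank k K) (algebraMap k K b) * M.map σ =
    M * cmat (Module.finrank k K) (algebraMap k K b)}
  mul_mem' {M N} hM hN := by
    simp only [Set.mem_ofPred_eq] at hM hN ⊢
    rw [Matrix.map_mul, ← mul_assoc, hM, mul_assoc, hN, mul_assoc]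
  add_mem' {M N} hM hN := by
    simp only [Set.mem_ofPred_eq] at hM hN ⊢
    rw [Matrix.map_add _ (map_add σ), mul_add, add_mul, hM, hN]
  algebraMap_mem' r := by
    simp only [Set.mem_ofPred_eq]
    rw [Matrix.map_algebraMap r σ (map_zero σ) (σ.commutes r)]
    exact (Algebra.commutes r _).symm

omit [FiniteDimensional k K] [IsGalois k K] in
variable (σ) in
theorem mem_cycModel (b : k) (M : Matrix (Fin (Module.finrank k K)) (Fin (Module.finrank k K)) K) :
    M ∈ cycModel σ b ↔ cmat (Module.finrank k K) (algebraMap k K b) * M.map σ =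
      M * cmat (Module.finrank k K) (algebraMap k K b) := Iff.rfl

omit [FiniteDimensional k K] [IsGalois k K] in
theorem cmat_mem_cycModel (b : k) :
    cmat (Module.finrank k K) (algebraMap k K b) ∈ cycModel σ b := by
  rw [mem_cycModel]
  have h : (cmat (Module.finrank k K) (algebraMap k K b)).map σ =
      cmat (Module.finrank k K) (algebraMap k K b) := by
    rw [show (⇑σ : K → K) = ⇑(σ.toRingEquiv.toRingHom) from rfl, map_cmat]
    exact congrArg (cmat _) (σ.commutes b)
  rw [h]

include hσ in
theorem diagEmb_mem_cycModel (b : k) (x : K) : diagEmb K σ (AlgHom.id k K) x ∈ cycModel σ b := by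
  rw [mem_cycModel]
  refine Matrix.ext fun i l => ?_
  rw [diagEmb_apply, Matrix.diagonal_map (map_zero σ), Matrix.mul_diagonal, Matrix.diagonal_mul,
    cmat_apply]
  split_ifs with h
  · rw [h, pow_val_succ hσ, pow_succ', mul_comm]
    rfl
  · simp

omit [IsGalois k K] in
theorem finrank_cycModel_le (b : kˣ) :
    Module.finrank k (cycModel σ (b : k)) ≤ Module.finrank k K ^ 2 := by
  let f : cycModel σ (b : k) →ₗ[k] Fin (Module.finrank k K) → K :=
    { toFun := fun M i => M.1 i 0
      map_add' := fun _ _ => rfl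
      map_smul' := fun _ _ => rfl }
  have hw : ∀ i : Fin (Module.finrank k K), cwt (algebraMap k K (b : k)) i ≠ 0 := fun i => by
    rw [cwt]
    split_ifs
    · exact (map_ne_zero _).2 b.ne_zero
    · exact one_ne_zero
  have hf : Function.Injective f := (injective_iff_map_eq_zero f).2 fun M hM => by
    have hrec : ∀ (l : ℕ) (hl : l < Module.finrank k K) (i : Fin (Module.finrank k K)),
        M.1 i ⟨l, hl⟩ = 0 := by
      intro l
      induction l with
      | zero => exact fun hl i => congrFun hM i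
      | succ l ih =>
        intro hl i
        have h1 := congrFun (congrFun ((mem_cycModel σ _ _).1 M.2) i) ⟨l, by omega⟩
        rw [cmat_mul, mul_cmat, Matrix.map_apply, ih (by omega) (i - 1), map_zero, mul_zero,
          eq_comm, mul_eq_zero] at h1
        have he : (⟨l, by omega⟩ : Fin (Module.finrank k K)) + 1 = ⟨l + 1, hl⟩ := Fin.ext (by
          rw [val_add_one, if_neg (show ¬ l + 1 = Module.finrank k K by omega)])
        rw [he] at h1
        exact h1.resolve_right (hw _)
    exact Subtype.ext (Matrix.ext fun i j => hrec j.val j.isLt i)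
  refine (LinearMap.finrank_le_finrank_of_injective hf).trans ?_
  rw [Module.finrank_pi_fintype, Finset.sum_const, Finset.card_univ, Fintype.card_fin, smul_eq_mul, sq]

include hσ in
theorem exists_cycData_model (b : kˣ) :
    ∃ ι y, CycData σ b (cycModel σ (b : k)) ι y := by
  let ι : K →ₐ[k] cycModel σ (b : k) :=
    (diagEmb K σ (AlgHom.id k K)).codRestrict _ (diagEmb_mem_cycModel hσ (b : k))
  let y : cycModel σ (b : k) := ⟨_, cmat_mem_cycModel (σ := σ) (b : k)⟩
  have hcomm : ∀ x, ι x * y = y * ι (σ x) := fun x => Subtype.ext (by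
    have := diagEmb_mul_cmat hσ (AlgHom.id k K) (b : k) x
    rwa [AlgHom.mapMatrix_apply, show ⇑(Algebra.ofId k K) = ⇑(algebraMap k K) from rfl, map_cmat] at this)
  have hpow : y ^ Module.finrank k K = algebraMap k _ (b : k) := Subtype.ext (by
    change cmat _ _ ^ _ = _
    rw [cmat_pow, ← IsScalarTower.algebraMap_apply]
    rfl)
  refine ⟨ι, y, hpow, hcomm, le_antisymm (finrank_cycModel_le b) ?_⟩
  have hinj : Function.Injective (normalForm ι y) := (injective_iff_map_eq_zero _).2 fun c hc =>
    coeff_eq_zero hσ ι.toRingHom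
      ((isUnit_pow_iff Module.finrank_pos.ne').1 (hpow ▸ b.isUnit.map (algebraMap k (cycModel σ (b : k)))))
      hcomm c ((normalForm_apply ι y c).symm.trans hc)
  refine le_trans ?_ (LinearMap.finrank_le_finrank_of_injective hinj)
  rw [Module.finrank_pi_fintype, Finset.sum_const, Finset.card_univ, Fintype.card_fin, smul_eq_mul, sq]

end Model

section Class

variable [FiniteDimensional k K] [IsGalois k K] {σ : K ≃ₐ[k] K}
  (hσ : ∀ τ : K ≃ₐ[k] K, τ ∈ Subgroup.zpowers σ)

include hσ in
theorem model_csa (b : kˣ) :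
    Algebra.IsCentral k (cycModel σ (b : k)) ∧ IsSimpleRing (cycModel σ (b : k)) :=
  let ⟨_, _, d⟩ := exists_cycData_model hσ b
  ⟨d.central hσ, d.simple hσ⟩

include hσ in
/-- Products of cyclic algebras. -/
theorem cl_mul_of_cycData {b b' : kˣ}
    {A : Type w} [Ring A] [Algebra k A] {ι : K →ₐ[k] A} {y : A} (d : CycData σ b A ι y)
    {A' : Type w} [Ring A'] [Algebra k A'] {ι' : K →ₐ[k] A'} {y' : A'} (d' : CycData σ b' A' ι' y')
    {C : Type x} [Ring C] [Algebra k C] {j : K →ₐ[k] C} {z : C} (d'' : CycData σ (b * b') C j z) :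
    BrEq k (A ⊗[k] A') C := by
  have := d.finite
  have := d'.finite
  have := d''.finite
  have := d.simple hσ
  have := d.central hσ
  have := d'.simple hσ
  have := d''.nontrivial
  let F := (Algebra.ofId k C).mapMatrix (cmat (Module.finrank k K) (b' : k))
  have hF : F ^ Module.finrank k K = algebraMap k _ (b' : k) := by
    rw [← map_pow, cmat_pow, AlgHom.commutes]
  obtain ⟨T, hT⟩ : IsUnit F :=
    (isUnit_pow_iff Module.finrank_pos.ne').1 (hF ▸ b'.isUnit.map (algebraMap k _))
  have hFz : Commute F (Matrix.scalar (Fin (Module.finrank k K)) z) := commute_map_scalar _ z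
  have hFj : ∀ x, Commute (Matrix.scalar (Fin (Module.finrank k K)) (j x)) F := fun x =>
    (commute_map_scalar _ (j x)).symm
  have hTz : Commute ((T⁻¹ : (Matrix _ _ C)ˣ) : Matrix _ _ C)
      (Matrix.scalar (Fin (Module.finrank k K)) z) := by
    rw [← hT] at hFz
    exact hFz.units_inv_left
  obtain ⟨f₁, hf₁, hf₁y⟩ := d.exists_hom hσ
    ((Matrix.scalarAlgHom (Fin (Module.finrank k K)) k).comp j)
    (Matrix.scalar _ z * ((T⁻¹ : (Matrix _ _ C)ˣ) : Matrix _ _ C)) (by
      rw [Commute.mul_pow hTz.symm, ← map_pow, d''.pow, ← Units.val_pow_eq_pow_val, inv_pow]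
      rw [Units.mul_inv_eq_iff_eq_mul, Units.val_pow_eq_pow_val, hT, hF, ← map_mul, ← Units.val_mul]
      rfl) (fun x => by
      simp only [AlgHom.comp_apply, Matrix.scalarAlgHom_apply]
      rw [← mul_assoc, ← map_mul, d''.comm, map_mul, mul_assoc, mul_assoc]
      congr 1
      have h := hFj (σ x)
      rw [← hT] at h
      exact h.units_inv_right.eq)
  obtain ⟨f₂, hf₂, hf₂y⟩ := d'.exists_hom hσ (diagEmb K σ j) F hF (diagEmb_mul_cmat hσ j (b' : k))
  have hcomm : ∀ a a', Commute (f₁ a) (f₂ a') := by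
    have hdd : ∀ x x', Commute (Matrix.scalar (Fin (Module.finrank k K)) (j x)) (diagEmb K σ j x') := by
      intro x x'
      rw [diagEmb_apply, Matrix.scalar_apply]
      refine (Matrix.diagonal_mul_diagonal _ _).trans ((Matrix.diagonal_mul_diagonal _ _).trans ?_).symm
      refine congrArg Matrix.diagonal (funext fun i => ?_)
      rw [← map_mul, ← map_mul, mul_comm]
    have hyd : ∀ x', Commute (Matrix.scalar _ z * ((T⁻¹ : (Matrix _ _ C)ˣ) : Matrix _ _ C))
        (diagEmb K σ j x') := by
      intro x'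
      have h1 : diagEmb K σ j x' * Matrix.scalar _ z = Matrix.scalar _ z * diagEmb K σ j (σ x') := by
        refine Matrix.ext fun i l => ?_
        rw [Matrix.scalar_apply, diagEmb_apply, diagEmb_apply, Matrix.diagonal_mul_diagonal,
          Matrix.diagonal_mul_diagonal, Matrix.diagonal_apply, Matrix.diagonal_apply]
        split_ifs
        · rw [d''.comm, ← AlgEquiv.mul_apply, ← pow_succ', pow_succ]
          rfl
        · rfl
      have h2 : diagEmb K σ j x' * (T : Matrix _ _ C) = (T : Matrix _ _ C) * diagEmb K σ j (σ x') := by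
        rw [hT]; exact diagEmb_mul_cmat hσ j (b' : k) x'
      have h3 : ((T⁻¹ : (Matrix _ _ C)ˣ) : Matrix _ _ C) * diagEmb K σ j x' =
          diagEmb K σ j (σ x') * ((T⁻¹ : (Matrix _ _ C)ˣ) : Matrix _ _ C) := by
        rw [Units.eq_mul_inv_iff_mul_eq, mul_assoc, h2, Units.inv_mul_cancel_left]
      change _ * _ = _ * _
      rw [mul_assoc, h3, ← mul_assoc, ← h1, mul_assoc]
    intro a a'
    have hkey : ∀ a, ∀ x', Commute (f₁ a) (diagEmb K σ j x') ∧ Commute (f₁ a) F := fun a x' => by
      induction a using d.induction hσ with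
      | hzero => simp
      | hadd p q hp hq => rw [map_add]; exact ⟨hp.1.add_left hq.1, hp.2.add_left hq.2⟩
      | hgen i c =>
        rw [map_mul, map_pow, hf₁, hf₁y]
        refine ⟨((hyd x').pow_left _).mul_left (hdd c x'), ((Commute.mul_left hFz.symm ?_).pow_left _).mul_left (hFj c)⟩
        rw [← hT]
        change _ * _ = _ * _
        rw [Units.inv_mul, Units.mul_inv]
    induction a' using d'.induction hσ with
    | hzero => simp
    | hadd p q hp hq => rw [map_add]; exact hp.add_right hq
    | hgen i c =>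
      rw [map_mul, map_pow, hf₂, hf₂y]
      exact ((hkey a c).2.pow_right _).mul_right (hkey a c).1
  let g : (A ⊗[k] A') →ₐ[k] Matrix (Fin (Module.finrank k K)) (Fin (Module.finrank k K)) C :=
    Algebra.TensorProduct.lift f₁ f₂ hcomm
  refine BrEq.of_matrix Module.finrank_pos.ne' (equivOfHom g ?_)
  rw [Module.finrank_tensorProduct, d.dim, d'.dim, Module.finrank_matrix, d''.dim, Fintype.card_fin, sq]

/-- The class of the cyclic algebra. -/
noncomputable def cycCl (hσ : ∀ τ : K ≃ₐ[k] K, τ ∈ Subgroup.zpowers σ) : kˣ →* Br k :=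
  MonoidHom.mk' (fun b =>
    haveI := (model_csa hσ b).1
    haveI := (model_csa hσ b).2
    cl k (cycModel σ (b : k))) fun b b' => by
    obtain ⟨_, _, d⟩ := exists_cycData_model hσ b
    obtain ⟨_, _, d'⟩ := exists_cycData_model hσ b'
    obtain ⟨_, _, d''⟩ := exists_cycData_model hσ (b * b')
    have := (model_csa hσ b).1
    have := (model_csa hσ b).2
    have := (model_csa hσ b').1
    have := (model_csa hσ b').2
    have := (model_csa hσ (b * b')).1
    have := (model_csa hσ (b * b')).2
    have : FiniteDimensional k (cycModel σ (b : k)) := d.finite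
    have : FiniteDimensional k (cycModel σ (b' : k)) := d'.finite
    have : FiniteDimensional k (cycModel σ (b : k) ⊗[k] cycModel σ (b' : k)) := Module.Finite.tensorProduct k _ _
    rw [cl_tensor, eq_comm, cl_eq_iff]
    exact cl_mul_of_cycData hσ d d' d''

theorem CycData.equiv {b : kˣ} {A : Type w} [Ring A] [Algebra k A] {ι : K →ₐ[k] A} {y : A}
    (d : CycData σ b A ι y) {B : Type x} [Ring B] [Algebra k B] {ι' : K →ₐ[k] B} {y' : B}
    (d' : CycData σ b B ι' y') (hσ : ∀ τ : K ≃ₐ[k] K, τ ∈ Subgroup.zpowers σ) :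
    Nonempty (A ≃ₐ[k] B) := by
  have := d.simple hσ
  have := d.finite
  have := d'.finite
  have := d'.nontrivial
  obtain ⟨f, -, -⟩ := d.exists_hom hσ ι' y' d'.pow d'.comm
  exact ⟨equivOfHom f (d.dim.trans d'.dim.symm)⟩

theorem cl_eq_cycCl {b : kˣ} {A : Type w} [Ring A] [Algebra k A] [Algebra.IsCentral k A] [IsSimpleRing A]
    [FiniteDimensional k A] {ι : K →ₐ[k] A} {y : A} (d : CycData σ b A ι y) :
    cl k A = cycCl hσ b := by
  obtain ⟨_, _, d'⟩ := exists_cycData_model hσ b
  have := (model_csa hσ b).1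
  have := (model_csa hσ b).2
  exact cl_congr (d.equiv d' hσ).some

end Class

end CSALib
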