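import Groth.Agent.CSALib.CyclicModel

/-!
# The norm criterion and algebras split by a cyclic extension
-/

set_option autoImplicit false

universe u v w x

open scoped TensorProduct

namespace CSALib

variable {k : Type u} [Field k] {K : Type v} [Field K] [Algebra k K] [FiniteDimensional k K]
  [IsGalois k K] {σ : K ≃ₐ[k] K} (hσ : ∀ τ : K ≃ₐ[k] K, τ ∈ Subgroup.zpowers σ)

include hσ in
theorem norm_eq_prod (x : K) :
    algebraMap k K (Algebra.norm k x) = ∏ l ∈ Finset.range (Module.finrank k K), (σ⁻¹ ^ l) x := by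
  rw [Algebra.norm_eq_prod_automorphisms, Finset.prod_range]
  have ho : orderOf σ⁻¹ = Module.finrank k K := by rw [orderOf_inv, orderOf_eq_finrank hσ]
  refine (Fintype.prod_bijective (fun l : Fin (Module.finrank k K) => σ⁻¹ ^ l.val) ?_ _ _ fun l => rfl).symm
  rw [Fintype.bijective_iff_injective_and_card]
  refine ⟨fun a c hac => Fin.ext (pow_injOn_Iio_orderOf (by rw [Set.mem_Iio, ho]; exact a.isLt)
    (by rw [Set.mem_Iio, ho]; exact c.isLt) hac), ?_⟩
  rw [Fintype.card_fin, ← IsGalois.card_aut_eq_finrank, Nat.card_eq_fintype_card]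

variable (K) in
/-- The twisted shift on `K`. -/
noncomputable def twist (σ : K ≃ₐ[k] K) (x : K) : Module.End k K :=
  (LinearMap.mulLeft k x).comp (σ⁻¹ : K ≃ₐ[k] K).toLinearMap

omit [FiniteDimensional k K] [IsGalois k K] in
theorem twist_pow (x : K) (l : ℕ) (v : K) :
    (twist K σ x ^ l) v = (∏ i ∈ Finset.range l, (σ⁻¹ ^ i) x) * (σ⁻¹ ^ l) v := by
  induction l generalizing v with
  | zero => simp
  | succ l ih =>
    rw [pow_succ, Module.End.mul_apply, ih]
    change _ * (σ⁻¹ ^ l) (x * σ⁻¹ v) = _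
    rw [map_mul, Finset.prod_range_succ, pow_succ σ⁻¹, AlgEquiv.mul_apply]
    ring

include hσ in
theorem twist_pow_eq (x : K) :
    twist K σ x ^ Module.finrank k K = algebraMap k (Module.End k K) (Algebra.norm k x) := by
  refine LinearMap.ext fun v => ?_
  rw [twist_pow, ← norm_eq_prod hσ, Module.algebraMap_end_apply, Algebra.smul_def]
  congr 1
  rw [← orderOf_eq_finrank hσ, ← orderOf_inv, pow_orderOf_eq_one]
  rfl

omit [FiniteDimensional k K] [IsGalois k K] in
theorem lmul_comm_twist (x c : K) :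
    Algebra.lmul k K c * twist K σ x = twist K σ x * Algebra.lmul k K (σ c) := by
  refine LinearMap.ext fun v => ?_
  change c * (x * σ⁻¹ v) = x * σ⁻¹ (σ c * v)
  rw [map_mul, ← AlgEquiv.mul_apply, inv_mul_cancel, AlgEquiv.one_apply]
  ring

include hσ in
theorem cycCl_eq_one_iff (b : kˣ) : cycCl hσ b = 1 ↔ ∃ x : K, Algebra.norm k x = (b : k) := by
  obtain ⟨ι, y, d⟩ := exists_cycData_model hσ b
  have := (model_csa hσ b).1
  have := (model_csa hσ b).2
  have := d.finite
  have hdim : Module.finrank k (cycModel σ (b : k)) = Module.finrank k (Module.End k K) := by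
    rw [d.dim, Module.finrank_linearMap, sq]
  rw [← cl_eq_cycCl hσ d, one_def, cl_eq_iff]
  constructor
  · intro h
    have hK : BrEq k (Module.End k K) k :=
      BrEq.of_matrix Module.finrank_pos.ne' (algEquivMatrix (Module.finBasis k K))
    have := central_of_equiv (algEquivMatrix (Module.finBasis k K)).symm
    have : IsSimpleRing (Module.End k K) := simple_of_equiv (algEquivMatrix (Module.finBasis k K)).symm
    obtain ⟨g⟩ := nonempty_algEquiv_of_brEq (h.trans hK.symm) hdim
    obtain ⟨u, hu⟩ := skolemNoether (g.toAlgHom.comp ι) (Algebra.lmul k K)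
    let T : Module.End k K := (u : Module.End k K) * g y * (u⁻¹ : (Module.End k K)ˣ)
    have hT : ∀ c, Algebra.lmul k K c * T = T * Algebra.lmul k K (σ c) := fun c => by
      rw [hu, hu]
      change (u : Module.End k K) * g (ι c) * _ * T = T * (_ * g (ι (σ c)) * _)
      simp only [T, mul_assoc, Units.inv_mul_cancel_left]
      congr 1
      rw [← mul_assoc (g (ι c)), ← map_mul, d.comm, map_mul, mul_assoc]
    refine ⟨T 1, ?_⟩
    have hTx : T = twist K σ (T 1) := LinearMap.ext fun v => by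
      have h1 := LinearMap.congr_fun (hT (σ⁻¹ v)) 1
      change σ⁻¹ v * T 1 = T (σ (σ⁻¹ v) * 1) at h1
      rw [← AlgEquiv.mul_apply, mul_inv_cancel, AlgEquiv.one_apply, mul_one] at h1
      rw [← h1, mul_comm]
      rfl
    have hpow : T ^ Module.finrank k K = algebraMap k (Module.End k K) (b : k) := by
      rw [show T ^ Module.finrank k K = (u : Module.End k K) * g y ^ Module.finrank k K *
          (u⁻¹ : (Module.End k K)ˣ) from Units.conj_pow u (g y) _,
        ← map_pow, d.pow, AlgEquiv.commutes, ← Algebra.commutes, mul_assoc, Units.mul_inv, mul_one]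
    rw [hTx, twist_pow_eq hσ] at hpow
    exact (algebraMap k (Module.End k K)).injective hpow
  · rintro ⟨x, hx⟩
    obtain ⟨f, -, -⟩ := d.exists_hom hσ (Algebra.lmul k K) (twist K σ x)
      (by rw [twist_pow_eq hσ, hx]) (fun c => lmul_comm_twist x c)
    have : Nontrivial (Module.End k K) := inferInstance
    exact (BrEq.of_equiv (equivOfHom f hdim)).trans
      (BrEq.of_matrix Module.finrank_pos.ne' (algEquivMatrix (Module.finBasis k K)))

include hσ in
/-- An algebra of degree `[K : k]` containing `K` is cyclic. -/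
theorem exists_cycData_of_subfield {A : Type w} [Ring A] [Algebra k A] [Algebra.IsCentral k A]
    [IsSimpleRing A] [FiniteDimensional k A] (ι : K →ₐ[k] A)
    (hd : Module.finrank k A = Module.finrank k K ^ 2) :
    ∃ (y : Aˣ) (b : kˣ), CycData σ b A ι y := by
  obtain ⟨u, hu⟩ := skolemNoether ι (ι.comp (σ : K →ₐ[k] K))
  have hcomm : ∀ x, ι x * ((u⁻¹ : Aˣ) : A) = ((u⁻¹ : Aˣ) : A) * ι (σ x) := fun x => by
    rw [show ι (σ x) = (u : A) * ι x * (u⁻¹ : Aˣ) from hu x, ← mul_assoc, ← mul_assoc, Units.inv_mul,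
      one_mul]
  set y := u⁻¹
  have hc : ((y : A) ^ Module.finrank k K) ∈ Subalgebra.centralizer k (ι.range : Set A) :=
    (Subalgebra.mem_centralizer_iff k).2 fun g hg => by
      obtain ⟨x, rfl⟩ := hg
      change ι x * _ = _ * ι x
      rw [show ι x * (y : A) ^ Module.finrank k K = (y : A) ^ Module.finrank k K *
        ι ((σ ^ Module.finrank k K) x) from comm_pow ι.toRingHom (y : A) σ hcomm _ x,
        ← orderOf_eq_finrank hσ, pow_orderOf_eq_one]
      rfl
  have heq : ι.range = Subalgebra.centralizer k (ι.range : Set A) := by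
    refine Subalgebra.toSubmodule_injective (Submodule.eq_of_le_of_finrank_eq ?_ ?_)
    · rintro _ ⟨x, rfl⟩
      exact (Subalgebra.mem_centralizer_iff k).2 fun g ⟨z, hz⟩ => by
        rw [← hz]
        change ι z * ι x = ι x * ι z
        rw [← map_mul, ← map_mul, mul_comm]
    · have h2 := (centralizer_simple_and_finrank ι).2
      rw [hd, sq] at h2
      rw [Subalgebra.finrank_toSubmodule, Subalgebra.finrank_toSubmodule,
        Nat.eq_of_mul_eq_mul_left Module.finrank_pos h2]
      exact (LinearEquiv.ofInjective ι.toLinearMap ι.toRingHom.injective).finrank_eq.symm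
  rw [← heq] at hc
  obtain ⟨c, hc⟩ := hc
  replace hc : ι c = (y : A) ^ Module.finrank k K := hc
  have hfix : σ c = c := by
    have h := hcomm c
    rw [hc, ← pow_succ, pow_succ'] at h
    exact ι.toRingHom.injective ((y.mul_right_inj.1 h).symm.trans hc.symm)
  obtain ⟨r, hr⟩ := (IsGalois.mem_range_algebraMap_iff_fixed (F := k) c).2 fun τ => by
    obtain ⟨i, rfl⟩ := Subgroup.mem_zpowers_iff.1 (hσ τ)
    exact MulAction.mem_stabilizer_iff.1 (Subgroup.zpow_mem (MulAction.stabilizer (K ≃ₐ[k] K) c)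
      (MulAction.mem_stabilizer_iff.2 hfix) i)
  rw [← hr, ι.commutes] at hc
  have hr0 : r ≠ 0 := by
    rintro rfl
    rw [map_zero] at hc
    exact (y.isUnit.pow _).ne_zero hc.symm
  exact ⟨y, Units.mk0 r hr0, hc.symm, hcomm, hd⟩

omit [IsGalois k K] in
/-- An algebra of degree `[K : k]` split by `K` contains `K`. -/
theorem exists_subfield_of_splits {B : Type w} [Ring B] [Algebra k B] [Algebra.IsCentral k B]
    [IsSimpleRing B] [FiniteDimensional k B]
    (hd : Module.finrank k B = Module.finrank k K ^ 2) (hB : Curves.Splits k B K) :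
    Nonempty (K →ₐ[k] B) := by
  have hop : Curves.Splits k Bᵐᵒᵖ K := by
    rw [← res_eq_one_iff, ← inv_cl, map_inv, (res_eq_one_iff K).2 hB, inv_one]
  obtain ⟨n, hn, hn2, ⟨ψ⟩⟩ := splits_elim hop
  rw [← (MulOpposite.opLinearEquiv k).finrank_eq, hd] at hn2
  obtain rfl : Module.finrank k K = n := Nat.pow_left_injective two_ne_zero hn2
  let ρ : Bᵐᵒᵖ →ₐ[k] Module.End k (Fin (Module.finrank k K) → K) :=
    { toFun := fun a => ((ψ a).mulVecLin).restrictScalars k
      map_one' := LinearMap.ext fun v => by simp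
      map_mul' := fun a c => LinearMap.ext fun v => by simp [Matrix.mulVec_mulVec]
      map_zero' := LinearMap.ext fun v => by simp
      map_add' := fun a c => LinearMap.ext fun v => by simp
      commutes' := fun r => LinearMap.ext fun v => by
        change (ψ (algebraMap k Bᵐᵒᵖ r)).mulVec v = r • v
        rw [ψ.commutes, Matrix.algebraMap_eq_diagonal]
        ext i
        simp [Matrix.mulVec_diagonal, Algebra.smul_def] }
  let μ : Bᵐᵒᵖ →ₐ[k] Module.End k Bᵐᵒᵖ := Algebra.lmul k Bᵐᵒᵖ
  obtain ⟨e⟩ := nonempty_linearEquiv_of_finrank_eq (k := k) Bᵐᵒᵖ (ModOf μ) (ModOf μ) rfl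
  obtain ⟨S, hS, hpos⟩ := exists_simple_ideal (k := k) Bᵐᵒᵖ
  obtain ⟨a₁, ⟨e₁⟩⟩ := exists_fun (k := k) Bᵐᵒᵖ S (ModOf ρ)
  obtain ⟨a₂, ⟨e₂⟩⟩ := exists_fun (k := k) Bᵐᵒᵖ S Bᵐᵒᵖ
  have h₁ := finrank_fun_eq (k := k) Bᵐᵒᵖ e₁
  have h₂ := finrank_fun_eq (k := k) Bᵐᵒᵖ e₂
  rw [show Module.finrank k (ModOf ρ) = Module.finrank k (Fin (Module.finrank k K) → K) from rfl,
    Module.finrank_pi_fintype, Finset.sum_const, Finset.card_univ, Fintype.card_fin, smul_eq_mul] at h₁
  rw [← (MulOpposite.opLinearEquiv k).finrank_eq, hd, sq, h₁] at h₂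
  obtain rfl := Nat.eq_of_mul_eq_mul_right hpos h₂
  let f : ModOf ρ ≃ₗ[Bᵐᵒᵖ] Bᵐᵒᵖ := e₁.trans e₂.symm
  let s : K →ₐ[k] Module.End Bᵐᵒᵖ (ModOf ρ) :=
    { toFun := fun c =>
        { toFun := fun v => ModOf.mk ρ (c • v.val)
          map_add' := fun v w => smul_add c v.val w.val
          map_smul' := fun r v => ((ψ r).mulVec_smul c v.val).symm }
      map_one' := LinearMap.ext fun v => one_smul K v.val
      map_mul' := fun c c' => LinearMap.ext fun v => mul_smul c c' v.val
      map_zero' := LinearMap.ext fun v => zero_smul K v.val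
      map_add' := fun c c' => LinearMap.ext fun v => add_smul c c' v.val
      commutes' := fun r => LinearMap.ext fun v => algebraMap_smul K r v.val }
  exact ⟨((AlgEquiv.opOp k B).symm.toAlgHom.comp
    ((AlgEquiv.moduleEndSelf k).symm.toAlgHom.comp (f.conjAlgEquiv k).toAlgHom)).comp s⟩

include hσ in
theorem exists_cycData_brEq {A : Type w} [Ring A] [Algebra k A] [Algebra.IsCentral k A] [IsSimpleRing A]
    [FiniteDimensional k A] (hA : Curves.Splits k A K) :
    ∃ (b : kˣ) (B : Type w) (_ : Ring B) (_ : Algebra k B) (ι : K →ₐ[k] B) (y : B),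
      CycData σ b B ι y ∧ BrEq k A B := by
  obtain ⟨m, D, _, _, hm, _, _, ⟨e⟩⟩ := wedderburn (k := k) A
  have hcl : cl k A = cl k D := cl_matrix hm.ne' e
  obtain ⟨dd, hdd, hD⟩ := exists_sq k D
  have hind : ind (cl k A) = dd := (ind_cl_eq e hD).1
  have hres : res K (cl k A) = 1 := (res_eq_one_iff K).2 hA
  obtain ⟨t, ht⟩ := hind ▸ ind_dvd_of_res_eq_one K hres
  have ht0 : t ≠ 0 := fun h => Module.finrank_pos.ne' (ht.trans (by rw [h, mul_zero]))
  have : NeZero t := ⟨ht0⟩
  have hB : Module.finrank k (Matrix (Fin t) (Fin t) D) = Module.finrank k K ^ 2 := by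
    rw [finrank_matrix_fin, hD, ht]; ring
  have hBs : Curves.Splits k (Matrix (Fin t) (Fin t) D) K := by
    rw [← res_eq_one_iff, cl_matrix ht0 AlgEquiv.refl, ← hcl, hres]
  obtain ⟨ι⟩ := exists_subfield_of_splits hB hBs
  obtain ⟨y, b, d⟩ := exists_cycData_of_subfield hσ ι hB
  exact ⟨b, _, inferInstance, inferInstance, ι, y, d,
    cl_eq_iff.1 (hcl.trans (cl_matrix ht0 AlgEquiv.refl).symm)⟩

end CSALib
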