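import Groth.Agent.CSALib.Tpow

/-!
# Restriction and index
-/

set_option autoImplicit false

universe u v w x

open scoped TensorProduct

namespace CSALib

variable {k : Type u} [Field k]

section Res

variable (K : Type w) [Field K] [Algebra k K]

/-- Base change of a matrix algebra. -/
noncomputable def baseChangeMatrix {A : Type v} [Ring A] [Algebra k A] [Algebra.IsCentral k A]
    [IsSimpleRing A] [FiniteDimensional k A] (n : ℕ) [NeZero n] :
    K ⊗[k] Matrix (Fin n) (Fin n) A ≃ₐ[K] Matrix (Fin n) (Fin n) (K ⊗[k] A) :=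
  equivOfHom (Algebra.TensorProduct.lift (Algebra.ofId K _)
      (Algebra.TensorProduct.includeRight (R := k) (A := K) (B := A)).mapMatrix
      fun c a => Algebra.commutes (R := K) c _)
    (by rw [Module.finrank_baseChange, Module.finrank_matrix, Module.finrank_matrix,
      Module.finrank_baseChange])

theorem brEq_baseChange {A : Type v} [Ring A] [Algebra k A] [Algebra.IsCentral k A]
    [IsSimpleRing A] [FiniteDimensional k A] {B : Type x} [Ring B] [Algebra k B]
    [Algebra.IsCentral k B] [IsSimpleRing B] [FiniteDimensional k B] (h : BrEq k A B) :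
    BrEq K (K ⊗[k] A) (K ⊗[k] B) := by
  obtain ⟨n, m, hn, hm, ⟨e⟩⟩ := h
  have : NeZero n := ⟨hn⟩
  have : NeZero m := ⟨hm⟩
  exact ⟨n, m, hn, hm, ⟨(baseChangeMatrix (A := A) K n).symm.trans
    ((Algebra.TensorProduct.congr AlgEquiv.refl e).trans (baseChangeMatrix (A := B) K m))⟩⟩

/-- Base change of a tensor product. -/
noncomputable def baseChangeTensor {A : Type v} [Ring A] [Algebra k A] [Algebra.IsCentral k A]
    [IsSimpleRing A] [FiniteDimensional k A] {B : Type x} [Ring B] [Algebra k B]
    [Algebra.IsCentral k B] [IsSimpleRing B] [FiniteDimensional k B] :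
    K ⊗[k] (A ⊗[k] B) ≃ₐ[K] (K ⊗[k] A) ⊗[K] (K ⊗[k] B) :=
  equivOfHom (Algebra.TensorProduct.lift (Algebra.ofId K _)
      (Algebra.TensorProduct.lift
        (((Algebra.TensorProduct.includeLeft : (K ⊗[k] A) →ₐ[K] _).restrictScalars k).comp
          Algebra.TensorProduct.includeRight)
        (((Algebra.TensorProduct.includeRight : (K ⊗[k] B) →ₐ[K] _).restrictScalars k).comp
          Algebra.TensorProduct.includeRight)
        fun a b => (Commute.one_right _).tmul (Commute.one_left _))
      fun c a => Algebra.commutes (R := K) c _)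
    (by rw [Module.finrank_baseChange, Module.finrank_tensorProduct, Module.finrank_tensorProduct,
      Module.finrank_baseChange, Module.finrank_baseChange])

/-- Restriction, as a function. -/
noncomputable def resFun : Br k → Br K :=
  Quotient.lift (fun a => cl K (K ⊗[k] a.1.2)) fun _ _ h => cl_eq_iff.2 (brEq_baseChange K h)

theorem resFun_cl {A : Type v} [Ring A] [Algebra k A] [Algebra.IsCentral k A] [IsSimpleRing A]
    [FiniteDimensional k A] : resFun K (cl k A) = cl K (K ⊗[k] A) := by
  have := central_of_equiv (regEquiv k A)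
  have := simple_of_equiv (regEquiv k A)
  change cl K (K ⊗[k] (Algebra.leftMulMatrix (Module.finBasis k A)).range) = _
  exact cl_eq_iff.2 (brEq_baseChange K (.of_equiv (regEquiv k A).symm))

/-- Restriction. -/
noncomputable def res : Br k →* Br K :=
  MonoidHom.mk' (resFun K) fun a b => by
    induction a using induction_cl with | h X => ?_
    induction b using induction_cl with | h Y => ?_
    rw [cl_tensor, resFun_cl, resFun_cl, resFun_cl, cl_tensor]
    exact cl_congr (baseChangeTensor (A := X) (B := Y) K)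

theorem res_cl {A : Type v} [Ring A] [Algebra k A] [Algebra.IsCentral k A] [IsSimpleRing A]
    [FiniteDimensional k A] : res K (cl k A) = cl K (K ⊗[k] A) := resFun_cl K

theorem res_eq_one_iff {A : Type v} [Ring A] [Algebra k A] [Algebra.IsCentral k A] [IsSimpleRing A]
    [FiniteDimensional k A] : res K (cl k A) = 1 ↔ Curves.Splits k A K := by
  rw [res_cl, one_def, cl_eq_iff, brEq_self_iff]
  rfl

theorem res_mono {L : Type x} [Field L] [Algebra k L] (f : K →ₐ[k] L) {z : Br k}
    (h : res K z = 1) : res L z = 1 := by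
  induction z using induction_cl with | h X => ?_
  rw [res_eq_one_iff] at h ⊢
  exact splits_map f h

end Res

section Index

/-- Matrices of size one. -/
noncomputable def oneMat (A : Type v) [Ring A] [Algebra k A] : A ≃ₐ[k] Matrix (Fin 1) (Fin 1) A :=
  AlgEquiv.ofBijective (Matrix.scalarAlgHom (Fin 1) k)
    ⟨fun _ _ h => (Matrix.scalar_inj (n := Fin 1)).1 h, fun M => ⟨M 0 0, Matrix.ext fun i j => by
      simp [Subsingleton.elim i 0, Subsingleton.elim j 0]⟩⟩

theorem division_data {D : Type v} [DivisionRing D] [Algebra k D] {A : Type w} [Ring A] [Algebra k A]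
    [Algebra.IsCentral k A] [FiniteDimensional k A] {m : ℕ} (hm : 0 < m)
    (e : A ≃ₐ[k] Matrix (Fin m) (Fin m) D) :
    Algebra.IsCentral k D ∧ FiniteDimensional k D := by
  have : NeZero m := ⟨hm.ne'⟩
  have := central_of_equiv e
  have := finite_of_equiv e
  exact ⟨central_of_matrix (n := Fin m),
    .of_surjective (Matrix.entryLinearMap k D (0 : Fin m) (0 : Fin m)) fun d => ⟨fun _ _ => d, rfl⟩⟩

theorem finrank_eq_of_brEq {D : Type v} [DivisionRing D] [Algebra k D] [FiniteDimensional k D]
    {D' : Type w} [DivisionRing D'] [Algebra k D'] [FiniteDimensional k D'] (h : BrEq k D D') :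
    Module.finrank k D = Module.finrank k D' := by
  obtain ⟨n, m, hn, hm, ⟨e⟩⟩ := h
  have : NeZero n := ⟨hn⟩
  have : NeZero m := ⟨hm⟩
  obtain rfl := size_eq e
  have h := e.toLinearEquiv.finrank_eq
  rw [finrank_matrix_fin, finrank_matrix_fin] at h
  exact Nat.eq_of_mul_eq_mul_left (pow_pos (Nat.pos_of_ne_zero hn) 2) h

theorem exists_isIndex (A : Type v) [Ring A] [Algebra k A] [Algebra.IsCentral k A] [IsSimpleRing A]
    [FiniteDimensional k A] : ∃ d, CSAGal.IsIndex k A d := by
  obtain ⟨m, D, _, _, hm, _, _, ⟨e⟩⟩ := wedderburn (k := k) A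
  obtain ⟨d, hd, hdD⟩ := exists_sq k D
  exact ⟨d, Nat.pos_of_ne_zero hd, m, D, inferInstance, inferInstance, hm, hdD, ⟨e⟩⟩

theorem isIndex_unique {A : Type v} [Ring A] [Algebra k A] [Algebra.IsCentral k A]
    [FiniteDimensional k A] {B : Type w} [Ring B] [Algebra k B] [Algebra.IsCentral k B]
    [FiniteDimensional k B] (h : BrEq k A B) {d d' : ℕ} (hd : CSAGal.IsIndex k A d)
    (hd' : CSAGal.IsIndex k B d') : d = d' := by
  obtain ⟨-, m, D, _, _, hm, hD, ⟨e⟩⟩ := hd
  obtain ⟨-, m', D', _, _, hm', hD', ⟨e'⟩⟩ := hd'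
  obtain ⟨_, _⟩ := division_data hm e
  obtain ⟨_, _⟩ := division_data hm' e'
  have := finrank_eq_of_brEq ((((BrEq.of_matrix hm.ne' e).symm.trans h)).trans
    (BrEq.of_matrix hm'.ne' e'))
  rw [hD, hD'] at this
  exact (Nat.pow_left_injective two_ne_zero) this

/-- The index of a Brauer class. -/
noncomputable def ind (z : Br k) : ℕ :=
  Quotient.lift (fun a => (exists_isIndex (k := k) a.1.2).choose)
    (fun a b h => isIndex_unique h (exists_isIndex (k := k) a.1.2).choose_spec
      (exists_isIndex (k := k) b.1.2).choose_spec) z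

theorem isIndex_iff {A : Type v} [Ring A] [Algebra k A] [Algebra.IsCentral k A] [IsSimpleRing A]
    [FiniteDimensional k A] (d : ℕ) : CSAGal.IsIndex k A d ↔ ind (cl k A) = d := by
  have := central_of_equiv (regEquiv k A)
  have := simple_of_equiv (regEquiv k A)
  have hs : CSAGal.IsIndex k (Algebra.leftMulMatrix (Module.finBasis k A)).range (ind (cl k A)) :=
    (exists_isIndex _).choose_spec
  refine ⟨fun h => (isIndex_unique (.of_equiv (regEquiv k A)) h hs).symm, ?_⟩
  rintro rfl
  obtain ⟨d, hd⟩ := exists_isIndex (k := k) A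
  exact isIndex_unique (.of_equiv (regEquiv k A)) hd hs ▸ hd

theorem ind_cl_eq {A : Type v} [Ring A] [Algebra k A] [Algebra.IsCentral k A] [IsSimpleRing A]
    [FiniteDimensional k A] {D : Type w} [DivisionRing D] [Algebra k D] [Algebra.IsCentral k D]
    [FiniteDimensional k D] {m : ℕ} (e : A ≃ₐ[k] Matrix (Fin m) (Fin m) D) {d : ℕ}
    (hd : Module.finrank k D = d ^ 2) : ind (cl k A) = d ∧ cl k A = cl k D := by
  have hm : m ≠ 0 := by
    rintro rfl
    have : Subsingleton A := e.toEquiv.subsingleton
    exact false_of_nontrivial_of_subsingleton A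
  have hcl : cl k A = cl k D := cl_matrix hm e
  refine ⟨?_, hcl⟩
  rw [hcl, ← isIndex_iff]
  refine ⟨Nat.pos_of_ne_zero ?_, 1, D, inferInstance, inferInstance, one_pos, hd,
    ⟨(oneMat _)⟩⟩
  rintro rfl
  exact Module.finrank_pos.ne' (hd.trans (zero_pow two_ne_zero))

/-- Every class contains a division algebra. -/
theorem exists_division (z : Br k) :
    ∃ (D : Type u) (_ : DivisionRing D) (_ : Algebra k D) (_ : Algebra.IsCentral k D)
      (_ : FiniteDimensional k D), cl k D = z ∧ Module.finrank k D = ind z ^ 2 := by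
  induction z using induction_cl with | h X => ?_
  obtain ⟨-, m, D, _, _, hm, hD, ⟨e⟩⟩ := (isIndex_iff (k := k) (A := X) _).2 rfl
  obtain ⟨_, _⟩ := division_data hm e
  exact ⟨D, inferInstance, inferInstance, inferInstance, inferInstance, (cl_matrix hm.ne' e).symm, hD⟩

theorem ind_pos (z : Br k) : 0 < ind z := by
  induction z using induction_cl with | h X => ?_
  exact ((isIndex_iff (k := k) (A := X) _).2 rfl).1

theorem ind_eq_one_iff {z : Br k} : ind z = 1 ↔ z = 1 := by
  obtain ⟨D, _, _, _, _, rfl, hD⟩ := exists_division z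
  constructor
  · intro h
    rw [h, one_pow] at hD
    rw [one_def]
    exact (cl_congr (equivOfHom (Algebra.ofId k D) (by rw [hD, Module.finrank_self]))).symm
  · intro h
    have := finrank_eq_of_brEq (cl_eq_iff.1 (h.trans one_def))
    rw [hD, Module.finrank_self] at this
    simpa using this

theorem ind_dvd_deg {A : Type v} [Ring A] [Algebra k A] [Algebra.IsCentral k A] [IsSimpleRing A]
    [FiniteDimensional k A] {n : ℕ} (hn : Module.finrank k A = n ^ 2) : ind (cl k A) ∣ n := by
  obtain ⟨-, m, D, _, _, hm, hD, ⟨e⟩⟩ := (isIndex_iff (k := k) (A := A) _).2 rfl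
  have h := e.toLinearEquiv.finrank_eq
  rw [hn, finrank_matrix_fin, hD, ← mul_pow] at h
  exact Dvd.intro_left m (Nat.pow_left_injective two_ne_zero h).symm

theorem ind_mul_dvd (y z : Br k) : ind (y * z) ∣ ind y * ind z := by
  obtain ⟨D, _, _, _, _, rfl, hD⟩ := exists_division y
  obtain ⟨E, _, _, _, _, rfl, hE⟩ := exists_division z
  rw [cl_tensor]
  exact ind_dvd_deg (by rw [Module.finrank_tensorProduct, hD, hE, mul_pow])

variable (K : Type w) [Field K] [Algebra k K]

theorem ind_res_dvd (z : Br k) : ind (res K z) ∣ ind z := by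
  obtain ⟨D, _, _, _, _, rfl, hD⟩ := exists_division z
  rw [res_cl]
  exact ind_dvd_deg (by rw [Module.finrank_baseChange, hD])

theorem ind_dvd_finrank_mul [FiniteDimensional k K] (z : Br k) :
    ind z ∣ Module.finrank k K * ind (res K z) := by
  obtain ⟨D, _, _, _, _, rfl, hD⟩ := exists_division z
  rw [res_cl]
  generalize hd : ind (cl k D) = d at hD ⊢
  obtain ⟨-, a, D', _, _, ha, hD', ⟨e⟩⟩ := (isIndex_iff (k := K) (A := K ⊗[k] D) _).2 rfl
  obtain ⟨_, _⟩ := division_data ha e
  have : NeZero a := ⟨ha.ne'⟩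
  obtain ⟨S, -, hS⟩ := exists_simple_matrix e
  have h1 := e.toLinearEquiv.finrank_eq
  rw [Module.finrank_baseChange, hD, finrank_matrix_fin, hD', ← mul_pow] at h1
  have h2 : d = a * ind (cl K (K ⊗[k] D)) := Nat.pow_left_injective two_ne_zero h1
  have : FiniteDimensional K S := FiniteDimensional.finiteDimensional_submodule (S.restrictScalars K)
  have : FiniteDimensional k S := Module.Finite.trans K S
  let ρ : D →ₐ[k] Module.End k S :=
    (Algebra.lsmul k k S : (K ⊗[k] D) →ₐ[k] Module.End k S).comp Algebra.TensorProduct.includeRight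
  have : Module.Finite D (ModOf ρ) := Module.Finite.of_restrictScalars_finite k D (ModOf ρ)
  have h3 : Module.finrank k D * Module.finrank D (ModOf ρ) = Module.finrank k S :=
    Module.finrank_mul_finrank k D (ModOf ρ)
  rw [← Module.finrank_mul_finrank k K S, hS, hD', hD] at h3
  have hd0 : 0 < d := hd ▸ ind_pos _
  refine ⟨Module.finrank D (ModOf ρ), Nat.eq_of_mul_eq_mul_left hd0 ?_⟩
  calc d * (Module.finrank k K * ind (cl K (K ⊗[k] D)))
      = Module.finrank k K * (a * ind (cl K (K ⊗[k] D)) ^ 2) := by rw [h2]; ring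
    _ = d ^ 2 * Module.finrank D (ModOf ρ) := h3.symm
    _ = d * (d * Module.finrank D (ModOf ρ)) := by ring

theorem ind_dvd_of_res_eq_one [FiniteDimensional k K] {z : Br k} (h : res K z = 1) :
    ind z ∣ Module.finrank k K := by
  simpa [h, ind_eq_one_iff.2] using ind_dvd_finrank_mul K z

end Index

theorem exists_field (z : Br k) :
    ∃ K : IntermediateField k (AlgebraicClosure k), Algebra.IsSeparable k K ∧ FiniteDimensional k K ∧
      Module.finrank k K = ind z ∧ res K z = 1 := by
  obtain ⟨D, _, _, _, _, rfl, hD⟩ := exists_division z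
  obtain ⟨K, hs, hf, hd, hK, -⟩ := exists_splitting_field (k := k) D D (m := 1)
    (oneMat _)
  exact ⟨K, hs, hf, Nat.pow_left_injective two_ne_zero (hd.trans hD), (res_eq_one_iff K).2 hK⟩

theorem exists_galois (z : Br k) :
    ∃ L : IntermediateField k (AlgebraicClosure k), FiniteDimensional k L ∧ IsGalois k L ∧ res L z = 1 := by
  induction z using induction_cl with | h X => ?_
  obtain ⟨L, h1, h2, h3⟩ := exists_galois_splitting_field (k := k) X
  exact ⟨L, h1, h2, (res_eq_one_iff L).2 h3⟩

theorem ind_pow_dvd (z : Br k) (r : ℕ) : ind (z ^ r) ∣ ind z := by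
  obtain ⟨K, -, _, hK, h⟩ := exists_field z
  exact hK ▸ ind_dvd_of_res_eq_one K (by rw [map_pow, h, one_pow])

end CSALib
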