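import Groth.Agent.CSALib.Power

/-!
# Period and index
-/

set_option autoImplicit false

universe u v w

open scoped TensorProduct

namespace CSALib

variable {k : Type u} [Field k]

section Splits

variable {A : Type v} [Ring A] [Algebra k A] [Algebra.IsCentral k A] [IsSimpleRing A]
  [FiniteDimensional k A]

theorem splits_tpow_iff (e : ℕ) : Curves.Splits k (CSAGal.tpow k A e) k ↔ cl k A ^ e = 1 := by
  rw [← cl_tpow, cl_eq_one_iff]

theorem isPeriod_iff (e : ℕ) : CSAGal.IsPeriod k A e ↔ orderOf (cl k A) = e := by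
  rw [CSAGal.IsPeriod, splits_tpow_iff]
  constructor
  · rintro ⟨he, h1, h2⟩
    exact (orderOf_eq_iff he).2 ⟨h1, fun m hm hm0 h => h2 m hm0 hm ((splits_tpow_iff m).2 h)⟩
  · rintro rfl
    exact ⟨orderOf_pos' _, pow_orderOf_eq_one _,
      fun m hm0 hm h => pow_ne_one_of_lt_orderOf hm0.ne' hm ((splits_tpow_iff m).1 h)⟩

end Splits

theorem res_res (K : Type w) [Field K] [Algebra k K] (L : Type v) [Field L] [Algebra k L] [Algebra K L]
    [IsScalarTower k K L] (z : Br k) : res L (res K z) = res L z := by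
  induction z using induction_cl with | h X => ?_
  rw [res_cl, res_cl, res_cl]
  exact (cl_congr (equivOfHom (Algebra.TensorProduct.lift (Algebra.ofId L (L ⊗[K] (K ⊗[k] X)))
      (((Algebra.TensorProduct.includeRight : (K ⊗[k] X) →ₐ[K] L ⊗[K] (K ⊗[k] X)).restrictScalars k).comp
        Algebra.TensorProduct.includeRight)
      fun c a => Algebra.commutes (R := L) c _)
    (by simp only [Module.finrank_baseChange]))).symm

/-- The index divides a power of the period: a prime dividing the index divides the period. -/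
theorem prime_dvd_of_pow_eq_one {z : Br k} {e : ℕ} (h : z ^ e = 1) {p : ℕ} (hp : p.Prime)
    (hpd : p ∣ ind z) : p ∣ e := by
  by_contra hpe
  obtain ⟨L, _, _, hL⟩ := exists_galois z
  have := Fact.mk hp
  let P : Sylow p (L ≃ₐ[k] L) := default
  let E := IntermediateField.fixedField (P : Subgroup (L ≃ₐ[k] L))
  obtain ⟨a, ha⟩ := P.isPGroup'.exists_card_eq
  have hEL : Module.finrank E L = p ^ a := (IntermediateField.finrank_fixedField_eq_card _).trans ha
  have hres : res L (res E z) = 1 := (res_res E L z).trans hL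
  have h1 : res E z ^ (p ^ a) = 1 := by
    obtain ⟨c, hc⟩ := (orderOf_dvd_ind (res E z)).trans (hEL ▸ ind_dvd_of_res_eq_one L hres)
    rw [hc, pow_mul, pow_orderOf_eq_one, one_pow]
  have h2 : res E z ^ e = 1 := by rw [← map_pow, h, map_one]
  have h3 : res E z = 1 := by
    have := pow_gcd_eq_one.2 ⟨h1, h2⟩
    rwa [Nat.Coprime.pow_left a ((Nat.Prime.coprime_iff_not_dvd hp).2 hpe), pow_one] at this
  have hdvd : p ∣ Module.finrank k E := hpd.trans (ind_dvd_of_res_eq_one E h3)
  have hcard : (Nat.card (L ≃ₐ[k] L)) = Module.finrank k L := IsGalois.card_aut_eq_finrank k L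
  rw [← Module.finrank_mul_finrank k E L, IntermediateField.finrank_fixedField_eq_card] at hcard
  have hidx : (P : Subgroup (L ≃ₐ[k] L)).index = Module.finrank k E := by
    have h4 := (P : Subgroup (L ≃ₐ[k] L)).card_mul_index
    rw [hcard, mul_comm] at h4
    exact Nat.eq_of_mul_eq_mul_right Nat.card_pos h4
  exact P.not_dvd_index (hidx ▸ hdvd)

theorem primeFactors_ind_subset (z : Br k) {p : ℕ} (hp : p.Prime) (h : p ∣ ind z) : p ∣ orderOf z :=
  prime_dvd_of_pow_eq_one (pow_orderOf_eq_one z) hp h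

theorem ind_dvd_orderOf_pow (z : Br k) : ind z ∣ orderOf z ^ (ind z - 1) := by
  rw [Nat.dvd_iff_prime_pow_dvd_dvd]
  intro p a hp hpa
  rcases Nat.eq_zero_or_pos a with rfl | ha
  · simp
  refine (pow_dvd_pow p ?_).trans (pow_dvd_pow_of_dvd
    (primeFactors_ind_subset z hp ((dvd_pow_self p ha.ne').trans hpa)) _)
  have h1 := Nat.lt_pow_self hp.one_lt (n := a)
  have h2 := Nat.le_of_dvd (ind_pos z) hpa
  omega

theorem coprime_ind {z : Br k} {e n : ℕ} (h : z ^ e = 1) (hc : Nat.Coprime e n) :
    Nat.Coprime (ind z) n :=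
  Nat.coprime_of_dvd fun _ hp hpd hpn =>
    hp.not_dvd_one (hc ▸ Nat.dvd_gcd (prime_dvd_of_pow_eq_one h hp hpd) hpn)

theorem ind_dvd_of_ind_res_dvd {K : Type w} [Field K] [Algebra k K] [FiniteDimensional k K]
    {z : Br k} {e n : ℕ} (h : z ^ e = 1) (hc : Nat.Coprime e (Module.finrank k K))
    (hn : ind (res K z) ∣ n) : ind z ∣ n :=
  ((coprime_ind h hc).dvd_mul_left.1 ((ind_dvd_finrank_mul K z))).trans hn

end CSALib
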