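import Groth.Agent.CSALib.Index
import Groth.Agent.CSALib.Antisym

/-!
# The index of a power, period divides index
-/

set_option autoImplicit false

universe u v w

open scoped TensorProduct

namespace CSALib

variable {k : Type u} [Field k]

theorem commute_kr_asym {K : Type w} [Field K] {r n : ℕ} (T : Matrix (Fin n) (Fin n) K) :
    Commute (kr (fun _ : Fin r => n) fun _ => T) (asym K r n) := by
  refine Matrix.ext fun f g => ?_
  simp only [Matrix.mul_apply, kr_apply, asym_apply, Finset.mul_sum, Finset.sum_mul, mul_ite, ite_mul,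
    mul_zero, zero_mul]
  rw [Finset.sum_comm]
  conv_rhs => rw [Finset.sum_comm]
  refine Finset.sum_congr rfl fun σ _ => ?_
  rw [Finset.sum_ite_eq' Finset.univ (g ∘ σ), if_pos (Finset.mem_univ _)]
  have : ∀ h : Fin r → Fin n, f = h ∘ σ ↔ h = f ∘ σ.symm := fun h => by
    constructor <;> intro hh <;> funext l <;> simp [hh]
  simp_rw [this]
  rw [Finset.sum_ite_eq' Finset.univ (f ∘ σ.symm), if_pos (Finset.mem_univ _), mul_comm]
  congr 1
  exact Fintype.prod_equiv σ _ _ fun i => by simp

theorem map_asym {K : Type w} [Field K] {r n : ℕ} (σ : K →+* K) :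
    (asym K r n).map σ = asym K r n := by
  ext f g
  simp [asym_apply, apply_ite σ]

theorem exists_left_ideal {L : Type w} [Field L] [Algebra k L] [FiniteDimensional k L] [IsGalois k L]
    (D : Type v) [Ring D] [Algebra k D] [Algebra.IsCentral k D] [IsSimpleRing D]
    [FiniteDimensional k D] {n : ℕ} [NeZero n] (hd : Module.finrank k D = n ^ 2)
    (ψ : D →ₐ[k] Matrix (Fin n) (Fin n) L) (r : ℕ) :
    ∃ e : CSAGal.tpow k D r,
      Module.finrank k (LinearMap.range (LinearMap.mulRight k e)) = n ^ r * n.choose r := by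
  let Φ := piSplit (fun _ : Fin r => ψ) fun _ => hd
  let z := Φ.symm (asym L r n)
  have hz : ∀ σ : L ≃ₐ[k] L, TensorProduct.map σ.toLinearMap LinearMap.id z = z := fun σ => by
    let χ : D →ₐ[k] Matrix (Fin n) (Fin n) L := σ.toAlgHom.mapMatrix.comp ψ
    obtain ⟨w, hw⟩ := skolemNoether (k := L) (splitEquiv hd ψ).toAlgHom (splitEquiv hd χ).toAlgHom
    have hχ : ∀ a, χ a = (w : Matrix (Fin n) (Fin n) L) * ψ a * ((w⁻¹ : (Matrix (Fin n) (Fin n) L)ˣ) : Matrix (Fin n) (Fin n) L) := fun a => by
      simpa [splitEquiv_tmul] using hw (1 ⊗ₜ a)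
    let T := kr (R := L) (fun _ : Fin r => n) fun _ => (w : Matrix (Fin n) (Fin n) L)
    let T' := kr (R := L) (fun _ : Fin r => n)
      fun _ => ((w⁻¹ : (Matrix (Fin n) (Fin n) L)ˣ) : Matrix (Fin n) (Fin n) L)
    have hT : T' * T = 1 := by
      simp only [T, T', ← kr_mul]
      rw [← kr_one (R := L) fun _ : Fin r => n]
      congr 1
      funext i
      simp
    have key : ∀ y, (Φ y).map σ = T * Φ (TensorProduct.map σ.toLinearMap LinearMap.id y) * T' := fun y => by
      induction y with
      | zero => simp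
      | add p q hp hq =>
        rw [map_add, map_add, map_add, mul_add, add_mul, ← hp, ← hq,
          Matrix.map_add _ (map_add σ)]
      | tmul c x =>
        induction x using PiTensorProduct.induction_on with
        | add p q hp hq =>
          rw [TensorProduct.tmul_add, map_add, map_add, map_add, mul_add, add_mul, ← hp, ← hq,
            Matrix.map_add _ (map_add σ)]
        | smul_tprod d f =>
          rw [TensorProduct.tmul_smul, TensorProduct.smul_tmul', TensorProduct.map_tmul,
            LinearMap.id_apply, piSplit_tmul, piSplit_tmul, piHom_tprod, AlgEquiv.toLinearMap_apply,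
            mul_smul_comm, smul_mul_assoc]
          simp only [T, T', ← kr_mul]
          refine Matrix.ext fun a b => ?_
          simp only [Matrix.map_apply, Matrix.smul_apply, smul_eq_mul, map_mul, kr_apply, map_prod,
            Pi.mul_apply, ← hχ]
          rfl
    apply Φ.injective
    have h := key z
    have hE : (Φ z).map σ = Φ z := by
      rw [Φ.apply_symm_apply]
      exact map_asym (σ : L →+* L)
    rw [hE] at h
    have h' := congrArg (fun M => T' * M * T) h
    simp only [mul_assoc, hT, mul_one] at h'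
    rw [← mul_assoc T' T, hT, one_mul] at h'
    rw [← h', Φ.apply_symm_apply, ← (commute_kr_asym (w : Matrix (Fin n) (Fin n) L)).eq, ← mul_assoc,
      hT, one_mul]
  obtain ⟨e, he⟩ := exists_of_fixed L z hz
  refine ⟨e, ?_⟩
  let f := LinearMap.mulRight k e
  rw [← Module.finrank_baseChange (R := L) (M' := LinearMap.range f),
    ← finrank_range_mulRight (K := L) (r := r) (n := n)]
  let g : L ⊗[k] LinearMap.range f →ₗ[L] Matrix (Fin r → Fin n) (Fin r → Fin n) L :=
    Φ.toLinearMap ∘ₗ (LinearMap.range f).subtype.baseChange L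
  have hg : Function.Injective g := Φ.injective.comp
    (Module.Flat.lTensor_preserves_injective_linearMap (M := L) _ (LinearMap.range f).injective_subtype)
  have hEe : ∀ (c : L) (x : CSAGal.tpow k D r), Φ (c ⊗ₜ f x) = Φ (c ⊗ₜ x) * asym L r n := fun c x => by
    rw [← Φ.apply_symm_apply (asym L r n)]
    change Φ (c ⊗ₜ f x) = Φ (c ⊗ₜ x) * Φ z
    rw [← map_mul, he, Algebra.TensorProduct.tmul_mul_tmul, mul_one]
    rfl
  have hrange : LinearMap.range g = LinearMap.range (LinearMap.mulRight L (asym L r n)) := by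
    apply le_antisymm
    · rintro _ ⟨y, rfl⟩
      induction y with
      | zero => simp
      | add p q hp hq => rw [map_add]; exact add_mem hp hq
      | tmul c m =>
        obtain ⟨x, hx⟩ := m.2
        refine ⟨Φ (c ⊗ₜ x), ?_⟩
        rw [LinearMap.mulRight_apply, ← hEe, hx]
        rfl
    · rintro _ ⟨M, rfl⟩
      obtain ⟨y, rfl⟩ := Φ.surjective M
      induction y with
      | zero => simp
      | add p q hp hq => rw [map_add, map_add]; exact add_mem hp hq
      | tmul c x =>
        refine ⟨c ⊗ₜ ⟨f x, x, rfl⟩, ?_⟩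
        exact hEe c x
  rw [← hrange, LinearMap.finrank_range_of_inj hg]

theorem ind_pow_dvd_choose (z : Br k) (r : ℕ) : ind (z ^ r) ∣ (ind z).choose r := by
  obtain ⟨D, _, _, _, _, rfl, hD⟩ := exists_division z
  obtain ⟨L, _, _, hL⟩ := exists_galois_splitting_field (k := k) D
  obtain ⟨n, hn, hd, ⟨ψ⟩⟩ := splits_elim hL
  have : NeZero n := ⟨hn⟩
  obtain rfl : n = ind (cl k D) := Nat.pow_left_injective two_ne_zero (hd.symm.trans hD)
  obtain ⟨e, he⟩ := exists_left_ideal D hd ψ r
  rw [← cl_tpow]
  obtain ⟨-, a, D', _, _, ha, hD', ⟨E⟩⟩ :=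
    (isIndex_iff (k := k) (A := CSAGal.tpow k D r) _).2 rfl
  obtain ⟨_, _⟩ := division_data ha E
  have : NeZero a := ⟨ha.ne'⟩
  let J : Ideal (CSAGal.tpow k D r) := Ideal.span {e}
  have hJ : ∀ x, x ∈ J ↔ x ∈ LinearMap.range (LinearMap.mulRight k e) := fun x => by
    rw [Ideal.mem_span_singleton']
    rfl
  let eJ : J ≃ₗ[k] LinearMap.range (LinearMap.mulRight k e) :=
    { toFun := fun x => ⟨x.1, (hJ _).1 x.2⟩
      invFun := fun x => ⟨x.1, (hJ _).2 x.2⟩
      map_add' := fun _ _ => rfl
      map_smul' := fun _ _ => rfl }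
  have : FiniteDimensional k J := FiniteDimensional.finiteDimensional_submodule (J.restrictScalars k)
  have h := dvd_finrank_module E J
  rw [eJ.finrank_eq, he, hD'] at h
  have hdim := E.toLinearEquiv.finrank_eq
  rw [finrank_piTensor, Finset.prod_const, Finset.card_univ, Fintype.card_fin, hd, ← pow_mul,
    mul_comm 2, pow_mul, finrank_matrix_fin, hD', ← mul_pow] at hdim
  have hdim' := Nat.pow_left_injective two_ne_zero hdim
  rw [sq, ← mul_assoc, ← hdim'] at h
  exact Nat.dvd_of_mul_dvd_mul_left (pow_pos (Nat.pos_of_ne_zero hn) r) h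

/-- The period divides the index. -/
theorem pow_ind_eq_one (z : Br k) : z ^ ind z = 1 := by
  have := ind_pow_dvd_choose z (ind z)
  rw [Nat.choose_self, Nat.dvd_one, ind_eq_one_iff] at this
  exact this

theorem orderOf_dvd_ind (z : Br k) : orderOf z ∣ ind z := orderOf_dvd_of_pow_eq_one (pow_ind_eq_one z)

theorem orderOf_pos' (z : Br k) : 0 < orderOf z :=
  Nat.pos_of_dvd_of_pos (orderOf_dvd_ind z) (ind_pos z)

end CSALib
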