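import Groth.Agent.CSALib.Period

/-!
# Quaternion division algebras
-/

set_option autoImplicit false

universe u v

open scoped Quaternion

namespace CSALib

variable {k : Type u} [Field k]

theorem exists_quadratic {D : Type v} [DivisionRing D] [Algebra k D] [Algebra.IsCentral k D]
    [FiniteDimensional k D] (hD : Module.finrank k D = 4) {x : D}
    (hx : x ∉ Set.range (algebraMap k D)) :
    ∃ t n : k, x * x = t • x + algebraMap k D n := by
  have hint : IsIntegral k x := IsIntegral.of_finite k x
  have hirr : Fact (Irreducible (minpoly k x)) := ⟨minpoly.irreducible hint⟩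
  have hne := minpoly.ne_zero hint
  let f : AdjoinRoot (minpoly k x) →ₐ[k] D :=
    Ideal.Quotient.liftₐ (Ideal.span {minpoly k x}) (Polynomial.aeval x) fun p hp => by
      obtain ⟨r, rfl⟩ := Ideal.mem_span_singleton'.1 hp
      rw [map_mul, minpoly.aeval, mul_zero]
  have hf : Module.finrank k (AdjoinRoot (minpoly k x)) = (minpoly k x).natDegree := by
    rw [(AdjoinRoot.powerBasis hne).finrank, AdjoinRoot.powerBasis_dim]
  have : FiniteDimensional k (AdjoinRoot (minpoly k x)) := (AdjoinRoot.powerBasis hne).finite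
  obtain ⟨-, hC⟩ := centralizer_simple_and_finrank f
  have hle : f.range ≤ Subalgebra.centralizer k (f.range : Set D) := fun y hy =>
    (Subalgebra.mem_centralizer_iff k).2 fun z hz => by
      obtain ⟨p, rfl⟩ := hy
      obtain ⟨q, rfl⟩ := hz
      change f q * f p = f p * f q
      rw [← map_mul, mul_comm, map_mul]
  have hfr : Module.finrank k f.range = (minpoly k x).natDegree := by
    rw [← hf]
    exact (LinearEquiv.ofInjective f.toLinearMap (injective_algHom f)).finrank_eq.symm
  have h1 : (minpoly k x).natDegree ≤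
      Module.finrank k (Subalgebra.centralizer k (f.range : Set D)) :=
    hfr ▸ Submodule.finrank_mono (R := k) (s := Subalgebra.toSubmodule f.range)
      (t := Subalgebra.toSubmodule (Subalgebra.centralizer k (f.range : Set D))) hle
  rw [hf, hD] at hC
  have hdeg : (minpoly k x).natDegree = 2 := by
    have h2 : 2 ≤ (minpoly k x).natDegree := (minpoly.two_le_natDegree_iff hint).2 hx
    have := Nat.mul_le_mul_left (minpoly k x).natDegree h1
    nlinarith
  have hm := minpoly.monic hint
  refine ⟨-(minpoly k x).coeff 1, -(minpoly k x).coeff 0, ?_⟩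
  have h := minpoly.aeval k x
  rw [Polynomial.aeval_eq_sum_range, hdeg, Finset.sum_range_succ, Finset.sum_range_succ,
    Finset.sum_range_one, ← hdeg, hm.coeff_natDegree, hdeg, one_smul, pow_zero, pow_one, sq] at h
  rw [eq_neg_of_add_eq_zero_right h, neg_add, map_neg, Algebra.algebraMap_eq_smul_one, neg_smul, add_comm]

theorem exists_algEquiv_quaternion (h2 : (2 : k) ≠ 0) {D : Type v} [DivisionRing D] [Algebra k D]
    [Algebra.IsCentral k D] [FiniteDimensional k D] (hD : Module.finrank k D = 4) :
    ∃ a b : k, Nonempty (ℍ[k,a,0,b] ≃ₐ[k] D) := by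
  obtain ⟨x, hx⟩ : ∃ x : D, x ∉ Set.range (algebraMap k D) := by
    by_contra h
    push Not at h
    have := LinearMap.finrank_le_finrank_of_injective (f := (LinearMap.id : D →ₗ[k] D)) Function.injective_id
    have hle : Module.finrank k D ≤ Module.finrank k k := by
      have hs : Function.Surjective (Algebra.linearMap k D) := fun y => h y
      simpa using LinearMap.finrank_le_finrank_of_surjective hs
    rw [hD, Module.finrank_self] at hle
    omega
  obtain ⟨t, n, hxx⟩ := exists_quadratic hD hx
  obtain ⟨i, a, hii, hi⟩ : ∃ (i : D) (a : k), i * i = algebraMap k D a ∧ i ∉ Set.range (algebraMap k D) := by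
    refine ⟨(2 : k) • x - algebraMap k D t, t * t + 4 * n, ?_, ?_⟩
    · rw [sub_mul, mul_sub, mul_sub, smul_mul_smul_comm, hxx, Algebra.algebraMap_eq_smul_one,
        Algebra.algebraMap_eq_smul_one]
      simp only [mul_smul_comm, smul_mul_assoc, mul_one, one_mul, smul_add, smul_smul, Algebra.algebraMap_eq_smul_one]
      match_scalars <;> ring
    · rintro ⟨c, hc⟩
      refine hx ⟨2⁻¹ * (c + t), ?_⟩
      rw [map_mul, map_add, hc, sub_add_cancel, ← Algebra.smul_def, smul_smul, inv_mul_cancel₀ h2, one_smul]
  obtain ⟨z, hz⟩ : ∃ z, i * z - z * i ≠ 0 := by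
    by_contra h
    push Not at h
    have : i ∈ Subalgebra.center k D := Subalgebra.mem_center_iff.2 fun z => (sub_eq_zero.1 (h z)).symm
    rw [Algebra.IsCentral.center_eq_bot, Algebra.mem_bot] at this
    exact hi this
  obtain ⟨j, hj, hji⟩ : ∃ j : D, j ≠ 0 ∧ j * i = -(i * j) := by
    refine ⟨_, hz, ?_⟩
    simp only [sub_mul, mul_sub, neg_sub, mul_assoc]
    rw [hii, ← Algebra.commutes, ← hii]
    simp only [mul_assoc]
  have hi0 : i ≠ 0 := fun h => hi ⟨0, by rw [h, map_zero]⟩
  have hj' : j ∉ Set.range (algebraMap k D) := by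
    rintro ⟨c, rfl⟩
    rw [Algebra.commutes, eq_neg_iff_add_eq_zero, ← two_smul k, smul_eq_zero] at hji
    rcases hji with h | h
    · exact h2 h
    · exact mul_ne_zero hi0 hj h
  obtain ⟨t', b, hjj⟩ := exists_quadratic hD hj'
  have ht' : t' = 0 := by
    have hc : i * (j * j) = j * j * i := by
      rw [mul_assoc j j i, hji, mul_neg, ← mul_assoc, ← mul_assoc, ← neg_mul, hji, neg_neg]
    rw [hjj, mul_add, add_mul, Algebra.commutes, add_left_inj, mul_smul_comm, smul_mul_assoc, hji, smul_neg,
      eq_neg_iff_add_eq_zero, ← two_smul k, smul_smul, smul_eq_zero] at hc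
    rcases hc with h | h
    · exact (mul_eq_zero.1 h).resolve_left h2
    · exact absurd h (mul_ne_zero hi0 hj)
  rw [ht', zero_smul, zero_add] at hjj
  let q : QuaternionAlgebra.Basis D a 0 b :=
    { i := i, j := j, k := i * j
      i_mul_i := by rw [hii, zero_smul, add_zero, Algebra.algebraMap_eq_smul_one]
      j_mul_j := by rw [hjj, Algebra.algebraMap_eq_smul_one]
      i_mul_j := rfl
      j_mul_i := by rw [hji, zero_smul, zero_sub] }
  have hinj : Function.Injective q.liftHom := (injective_iff_map_eq_zero _).2 fun w hw => by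
    change q.lift w = 0 at hw
    rw [QuaternionAlgebra.Basis.lift] at hw
    simp only [q] at hw
    let p : D := algebraMap k D w.re + w.imI • i
    let r : D := algebraMap k D w.imJ + w.imK • i
    have hpr : p + r * j = 0 := by
      simp only [p, r, add_mul, smul_mul_assoc, ← Algebra.smul_def]
      rw [← add_assoc]
      exact hw
    have hpi : i * p = p * i := by simp [p, mul_add, add_mul, Algebra.commutes]
    have hri : i * r = r * i := by simp [r, mul_add, add_mul, Algebra.commutes]
    have h1 : p * i - r * j * i = 0 := by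
      have := congrArg (fun u => i * u) hpr
      simp only [mul_zero, mul_add, hpi, ← mul_assoc, hri] at this
      rw [mul_assoc r j i, hji, mul_neg, sub_neg_eq_add, ← mul_assoc]
      exact this
    have h2' : p * i + r * j * i = 0 := by rw [← add_mul, hpr, zero_mul]
    have hp : p = 0 := by
      have : (2 : k) • (p * i) = 0 := by
        rw [two_smul, show p * i + p * i = (p * i - r * j * i) + (p * i + r * j * i) by abel, h1, h2', add_zero]
      exact (mul_eq_zero.1 ((smul_eq_zero.1 this).resolve_left h2)).resolve_right hi0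
    have hr : r = 0 := by
      rw [hp, zero_add] at hpr
      exact (mul_eq_zero.1 hpr).resolve_right hj
    have key : ∀ c d : k, algebraMap k D c + d • i = 0 → c = 0 ∧ d = 0 := fun c d h => by
      rcases eq_or_ne d 0 with rfl | hd
      · exact ⟨(algebraMap k D).injective (by simpa using h), rfl⟩
      · refine absurd ⟨-(d⁻¹ * c), ?_⟩ hi
        rw [map_neg, map_mul, ← Algebra.smul_def, eq_neg_of_add_eq_zero_left h, smul_neg, neg_neg, smul_smul,
          inv_mul_cancel₀ hd, one_smul]
    obtain ⟨h1', h2''⟩ := key _ _ hp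
    obtain ⟨h3, h4⟩ := key _ _ hr
    exact QuaternionAlgebra.ext h1' h2'' h3 h4
  refine ⟨a, b, ⟨AlgEquiv.ofBijective q.liftHom ⟨hinj, ?_⟩⟩⟩
  exact (LinearMap.injective_iff_surjective_of_finrank_eq_finrank
    (by rw [hD, QuaternionAlgebra.finrank_eq_four]) (f := q.liftHom.toLinearMap)).1 hinj

/-- A ring in which every nonzero element is a unit, as a division ring. -/
@[reducible] noncomputable def divisionOfIsUnit {R : Type v} [Ring R] [Nontrivial R]
    (h : ∀ x : R, x ≠ 0 → IsUnit x) : DivisionRing R :=
  DivisionRing.ofIsUnitOrEqZero fun x => or_iff_not_imp_right.2 (h x)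

theorem quaternion_class {a b : k} (hH : ∀ x : ℍ[k,a,0,b], x ≠ 0 → IsUnit x) {A : Type v} [Ring A]
    [Algebra k A] [Algebra.IsCentral k A] [IsSimpleRing A] [FiniteDimensional k A] {m : ℕ}
    (e : A ≃ₐ[k] Matrix (Fin m) (Fin m) ℍ[k,a,0,b]) :
    ind (cl k A) = 2 ∧ cl k A ^ 2 = 1 := by
  have hm : 0 < m := Nat.pos_of_ne_zero fun h => by
    subst h
    have : Subsingleton A := e.toEquiv.subsingleton
    exact false_of_nontrivial_of_subsingleton A
  let := divisionOfIsUnit hH
  obtain ⟨_, _⟩ := division_data hm e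
  obtain ⟨h1, h2⟩ := ind_cl_eq e (d := 2) ((QuaternionAlgebra.finrank_eq_four a 0 b).trans (by norm_num))
  refine ⟨h1, ?_⟩
  have : Algebra.IsCentral k (ℍ[k,a,0,b])ᵐᵒᵖ :=
    central_of_equiv (QuaternionAlgebra.starAe (R := k) (c₁ := a) (c₂ := 0) (c₃ := b))
  have h3 : (cl k ℍ[k,a,0,b])⁻¹ = cl k ℍ[k,a,0,b] := by
    rw [inv_cl]
    exact cl_congr (QuaternionAlgebra.starAe (R := k) (c₁ := a) (c₂ := 0) (c₃ := b)).symm
  rw [h2, sq]
  nth_rw 1 [← h3]
  exact inv_mul_cancel _

end CSALib
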