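import Groth.Agent.CSALib.SepElem

/-!
# Semisimple algebras with separable centre
-/

set_option autoImplicit false

universe u v w

open scoped TensorProduct

namespace CSALib

variable {k : Type u} [Field k]

theorem hasSepElem_simple (B : Type v) [Ring B] [Algebra k B] [FiniteDimensional k B] [IsSimpleRing B]
    [Algebra.IsSeparable k (Subalgebra.center k B)] : HasSepElem k B := by
  have hfld : IsField (Subalgebra.center k B) := IsSimpleRing.isField_center B
  letI := hfld.toField
  letI : Algebra (Subalgebra.center k B) B :=
    RingHom.toAlgebra' (Subalgebra.center k B).val.toRingHom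
      fun c x => (Subalgebra.mem_center_iff.1 c.2 x).symm
  have htow : @IsScalarTower k (Subalgebra.center k B) B _ Algebra.toSMul _ :=
    @IsScalarTower.of_algebraMap_eq k (Subalgebra.center k B) B _ _ _ _ _ _ fun r => rfl
  have : @Module.Finite (Subalgebra.center k B) B _ _ Algebra.toModule :=
    @Module.Finite.of_restrictScalars_finite k (Subalgebra.center k B) B _ _ _ _ Algebra.toModule _ htow _
  have : Algebra.IsCentral (Subalgebra.center k B) B := ⟨fun x hx => Algebra.mem_bot.2
    ⟨⟨x, Subalgebra.mem_center_iff.2 (Subalgebra.mem_center_iff.1 hx)⟩, rfl⟩⟩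
  have hfin : FiniteDimensional k (Subalgebra.center k B) := inferInstance
  have hC := hasSepElem_csa (F := Subalgebra.center k B) B
  exact @hasSepElem_tower (Subalgebra.center k B) _ k _ _ B _ _ _ htow hfin inferInstance hC

theorem hasSepElem_semisimple (A : Type v) [Ring A] [Algebra k A] [FiniteDimensional k A]
    [IsSemisimpleRing A] [Algebra.IsSeparable k (Subalgebra.center k A)] : HasSepElem k A := by
  classical
  obtain ⟨n, D, d, _, _, _, hd, ⟨e⟩⟩ := IsSemisimpleRing.exists_algEquiv_pi_matrix_divisionRing_finite k A
  refine HasSepElem.of_equiv e.symm (HasSepElem.pi fun i => ?_)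
  have : NeZero (d i) := hd i
  have : Algebra.IsSeparable k (Subalgebra.center k (Matrix (Fin (d i)) (Fin (d i)) (D i))) := by
    refine ⟨fun y => ?_⟩
    let x : A := e.symm (Pi.single i (y : Matrix (Fin (d i)) (Fin (d i)) (D i)))
    have hx : x ∈ Subalgebra.center k A := Subalgebra.mem_center_iff.2 fun a => e.injective (by
      rw [map_mul, map_mul, e.apply_symm_apply]
      funext j
      rcases eq_or_ne j i with rfl | hj
      · simp only [Pi.mul_apply, Pi.single_eq_same]
        exact Subalgebra.mem_center_iff.1 y.2 _
      · simp [Pi.single_eq_of_ne hj])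
    have hsep : IsSeparable k (⟨x, hx⟩ : Subalgebra.center k A) := Algebra.IsSeparable.isSeparable k _
    refine Polynomial.Separable.of_dvd hsep (minpoly.dvd k y ?_)
    have h0 := congrArg (fun z : A => e z i)
      (congrArg Subtype.val (minpoly.aeval k (⟨x, hx⟩ : Subalgebra.center k A)))
    simp only [Subalgebra.coe_zero, map_zero, Pi.zero_apply] at h0
    rw [← Subalgebra.coe_val, ← Polynomial.aeval_algHom_apply] at h0
    apply Subtype.ext
    rw [← Subalgebra.coe_val, ← Polynomial.aeval_algHom_apply, map_zero]
    let φ : A →ₐ[k] Matrix (Fin (d i)) (Fin (d i)) (D i) := (Pi.evalAlgHom k _ i).comp e.toAlgHom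
    have h3 : φ x = (y : Matrix (Fin (d i)) (Fin (d i)) (D i)) := by simp [φ, x]
    rw [show (Subalgebra.center k (Matrix (Fin (d i)) (Fin (d i)) (D i))).val y = φ x from h3.symm,
      Polynomial.aeval_algHom_apply]
    exact h0
  exact hasSepElem_simple _

end CSALib
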