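import Groth.Agent.CSALib.Basic

/-!
# Separability elements and semisimplicity of base change
-/

set_option autoImplicit false

universe u v w

open scoped TensorProduct

namespace CSALib

variable (k : Type u) [CommRing k] (A : Type v) [Ring A] [Algebra k A]

/-- A separability element exists. -/
def HasSepElem : Prop :=
  ∃ E : A ⊗[k] A,
    (∀ c : A, TensorProduct.map (LinearMap.mulLeft k c) LinearMap.id E =
      TensorProduct.map LinearMap.id (LinearMap.mulRight k c) E) ∧
    LinearMap.mul' k A E = 1

variable {k A}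

theorem HasSepElem.of_equiv {B : Type w} [Ring B] [Algebra k B] (e : A ≃ₐ[k] B) (h : HasSepElem k A) :
    HasSepElem k B := by
  obtain ⟨E, hE, h1⟩ := h
  refine ⟨TensorProduct.map e.toLinearMap e.toLinearMap E, fun c => ?_, ?_⟩
  · obtain ⟨c, rfl⟩ := e.surjective c
    have h2 := congrArg (TensorProduct.map e.toLinearMap e.toLinearMap) (hE c)
    have e1 : (LinearMap.mulLeft k (e c)).comp e.toLinearMap = e.toLinearMap.comp (LinearMap.mulLeft k c) :=
      LinearMap.ext fun x => (map_mul e c x).symm
    have e2 : (LinearMap.mulRight k (e c)).comp e.toLinearMap = e.toLinearMap.comp (LinearMap.mulRight k c) :=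
      LinearMap.ext fun x => (map_mul e x c).symm
    simp only [← LinearMap.comp_apply, ← TensorProduct.map_comp, LinearMap.id_comp, LinearMap.comp_id, e1,
      e2] at h2 ⊢
    exact h2
  · rw [← map_one e, ← h1]
    clear hE h1
    induction E with
    | zero => simp
    | add p q hp hq => simp [hp, hq]
    | tmul a b => simp

theorem HasSepElem.pi {ι : Type w} [Fintype ι] [DecidableEq ι] {B : ι → Type v} [∀ i, Ring (B i)]
    [∀ i, Algebra k (B i)] (h : ∀ i, HasSepElem k (B i)) : HasSepElem k (∀ i, B i) := by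
  choose E hE h1 using h
  refine ⟨∑ i, TensorProduct.map (LinearMap.single k B i) (LinearMap.single k B i) (E i), fun c => ?_, ?_⟩
  · rw [map_sum, map_sum]
    refine Finset.sum_congr rfl fun i _ => ?_
    have h2 := congrArg (TensorProduct.map (LinearMap.single k B i) (LinearMap.single k B i)) (hE i (c i))
    have e1 : (LinearMap.mulLeft k c).comp (LinearMap.single k B i) =
        (LinearMap.single k B i).comp (LinearMap.mulLeft k (c i)) := by
      refine LinearMap.ext fun x => funext fun j => ?_
      rcases eq_or_ne j i with rfl | hj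
      · simp
      · simp [Pi.single_eq_of_ne hj]
    have e2 : (LinearMap.mulRight k c).comp (LinearMap.single k B i) =
        (LinearMap.single k B i).comp (LinearMap.mulRight k (c i)) := by
      refine LinearMap.ext fun x => funext fun j => ?_
      rcases eq_or_ne j i with rfl | hj
      · simp
      · simp [Pi.single_eq_of_ne hj]
    simp only [← LinearMap.comp_apply, ← TensorProduct.map_comp, LinearMap.id_comp, LinearMap.comp_id, e1,
      e2] at h2 ⊢
    exact h2
  · rw [map_sum]
    have e3 : ∀ i, LinearMap.mul' k (∀ i, B i)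
        (TensorProduct.map (LinearMap.single k B i) (LinearMap.single k B i) (E i)) = Pi.single i 1 := by
      intro i
      rw [← h1 i]
      induction E i with
      | zero => simp
      | add p q hp hq => simp [hp, hq, Pi.single_add]
      | tmul a b => simp [← Pi.single_mul]
    simp only [e3]
    exact Finset.univ_sum_single (1 : ∀ i, B i)

section Field

variable {F : Type w} [Field F]

theorem hasSepElem_csa (B : Type v) [Ring B] [Algebra F B] [Algebra.IsCentral F B] [IsSimpleRing B]
    [FiniteDimensional F B] : HasSepElem F B := by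
  obtain ⟨f, hf⟩ : ∃ f : Module.Dual F B, f 1 = 1 := by
    obtain ⟨g, hg⟩ := Module.Projective.exists_dual_ne_zero F (one_ne_zero (α := B))
    exact ⟨(g 1)⁻¹ • g, by rw [LinearMap.smul_apply, smul_eq_mul, inv_mul_cancel₀ hg]⟩
  obtain ⟨hinj, hsurj⟩ := Groth.Agent.S7722.result F B
  obtain ⟨t, ht⟩ := hsurj (LinearMap.smulRight f 1)
  let u : B ⊗[F] Bᵐᵒᵖ →ₗ[F] B ⊗[F] B :=
    TensorProduct.map LinearMap.id (MulOpposite.opLinearEquiv F).symm.toLinearMap
  let u' : B ⊗[F] B →ₗ[F] B ⊗[F] Bᵐᵒᵖ :=
    TensorProduct.map LinearMap.id (MulOpposite.opLinearEquiv F).toLinearMap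
  have huu : ∀ z, u' (u z) = z := fun z => by
    induction z with
    | zero => simp
    | add p q hp hq => rw [map_add, map_add, hp, hq]
    | tmul a b => simp [u, u']
  have huu' : ∀ z, u (u' z) = z := fun z => by
    induction z with
    | zero => simp
    | add p q hp hq => rw [map_add, map_add, hp, hq]
    | tmul a b => simp [u, u']
  have hinj' : Function.Injective (fun z => AlgHom.mulLeftRight F B (u' z)) :=
    hinj.comp (Function.LeftInverse.injective huu')
  have hx : ∀ (z : B ⊗[F] B) (c x : B),
      AlgHom.mulLeftRight F B (u' (TensorProduct.map (LinearMap.mulLeft F c) LinearMap.id z)) x =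
        c * AlgHom.mulLeftRight F B (u' z) x ∧
      AlgHom.mulLeftRight F B (u' (TensorProduct.map LinearMap.id (LinearMap.mulRight F c) z)) x =
        AlgHom.mulLeftRight F B (u' z) x * c := fun z c x => by
    induction z with
    | zero => simp
    | add p q hp hq => simp only [map_add, LinearMap.add_apply, hp.1, hp.2, hq.1, hq.2, mul_add, add_mul, and_self]
    | tmul a b => simp [u', mul_assoc]
  refine ⟨u t, fun c => hinj' (LinearMap.ext fun x => ?_), ?_⟩
  · change AlgHom.mulLeftRight F B _ x = AlgHom.mulLeftRight F B _ x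
    rw [(hx (u t) c x).1, (hx (u t) c x).2, huu, ht, LinearMap.smulRight_apply, mul_smul_comm,
      smul_mul_assoc, mul_one, one_mul]
  · have h1 : LinearMap.mul' F B (u t) = AlgHom.mulLeftRight F B t 1 := by
      clear ht
      induction t with
      | zero => simp
      | add p q hp hq => rw [map_add, map_add, hp, hq, map_add, LinearMap.add_apply]
      | tmul a b => simp [u]
    rw [h1, ht, LinearMap.smulRight_apply, hf, one_smul]

variable {k₀ : Type u} [Field k₀] [Algebra k₀ F] {B : Type v} [Ring B] [Algebra F B] [Algebra k₀ B]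
  [IsScalarTower k₀ F B]

theorem hasSepElem_tower [FiniteDimensional k₀ F] [Algebra.IsSeparable k₀ F] (h : HasSepElem F B) :
    HasSepElem k₀ B := by
  have : Algebra.FormallyUnramified k₀ F := Algebra.FormallyUnramified.of_isSeparable k₀ F
  obtain ⟨E, hE, h1⟩ := h
  let T : F →ₐ[k₀] Module.End k₀ B := Algebra.lsmul k₀ k₀ B
  let j := Module.endTensorEndAlgHom (R := k₀) (S := k₀) (A := k₀) (M := B) (N := B)
  let θ : F ⊗[k₀] F →ₐ[k₀] Module.End k₀ (B ⊗[k₀] B) :=
    Algebra.TensorProduct.lift
      (j.comp ((Algebra.TensorProduct.includeLeft (S := k₀) (B := Module.End k₀ B)).comp T))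
      (j.comp ((Algebra.TensorProduct.includeRight (A := Module.End k₀ B)).comp T))
      fun s t => (((Commute.one_right (T s)).tmul (Commute.one_left (T t)))).map j
  have hθ : ∀ (s t : F) (a b : B), θ (s ⊗ₜ t) (a ⊗ₜ b) = (s • a) ⊗ₜ (t • b) := fun s t a b => by
    rw [show θ (s ⊗ₜ[k₀] t) = j (T s ⊗ₜ[k₀] 1) * j (1 ⊗ₜ[k₀] T t) from
      Algebra.TensorProduct.lift_tmul _ _
        (fun s t => (((Commute.one_right (T s)).tmul (Commute.one_left (T t)))).map j) s t]
    change TensorProduct.map (T s) 1 (TensorProduct.map 1 (T t) (a ⊗ₜ[k₀] b)) = _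
    simp [T]
  set e := Algebra.FormallyUnramified.elem k₀ F
  have hbal : ∀ (r : F) (a b : B), θ e ((r • a) ⊗ₜ b) = θ e (a ⊗ₜ (r • b)) := fun r a b => by
    have h2 : ∀ z : F ⊗[k₀] F,
        θ (z * (r ⊗ₜ 1)) (a ⊗ₜ b) = θ z ((r • a) ⊗ₜ b) ∧
        θ (z * (1 ⊗ₜ r)) (a ⊗ₜ b) = θ z (a ⊗ₜ (r • b)) := fun z => by
      rw [map_mul, map_mul, Module.End.mul_apply, Module.End.mul_apply, hθ, hθ, one_smul, one_smul]
      exact ⟨rfl, rfl⟩
    rw [← (h2 e).1, ← (h2 e).2, mul_comm e, mul_comm e, Algebra.FormallyUnramified.one_tmul_mul_elem]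
  let Ψ : B ⊗[F] B →+ B ⊗[k₀] B := TensorProduct.liftAddHom
    { toFun := fun a =>
        { toFun := fun b => θ e (a ⊗ₜ b)
          map_zero' := by rw [TensorProduct.tmul_zero, map_zero]
          map_add' := fun b b' => by rw [TensorProduct.tmul_add, map_add] }
      map_zero' := AddMonoidHom.ext fun b => by simp
      map_add' := fun a a' => AddMonoidHom.ext fun b => by simp [TensorProduct.add_tmul] }
    fun r a b => hbal r a b
  have hΨ : ∀ a b : B, Ψ (a ⊗ₜ b) = θ e (a ⊗ₜ b) := fun a b => TensorProduct.liftAddHom_tmul ..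
  have hcomm : ∀ (z : F ⊗[k₀] F) (c : B) (x : B ⊗[k₀] B),
      TensorProduct.map (LinearMap.mulLeft k₀ c) LinearMap.id (θ z x) =
        θ z (TensorProduct.map (LinearMap.mulLeft k₀ c) LinearMap.id x) ∧
      TensorProduct.map LinearMap.id (LinearMap.mulRight k₀ c) (θ z x) =
        θ z (TensorProduct.map LinearMap.id (LinearMap.mulRight k₀ c) x) := fun z c x => by
    induction z with
    | zero => simp
    | add p q hp hq => simp only [map_add, LinearMap.add_apply, hp.1, hp.2, hq.1, hq.2, and_self]
    | tmul s t =>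
      induction x with
      | zero => simp
      | add p q hp hq => simp only [map_add, hp.1, hp.2, hq.1, hq.2, and_self]
      | tmul a b => simp [hθ]
  have hmul : ∀ (z : F ⊗[k₀] F) (a b : B),
      LinearMap.mul' k₀ B (θ z (a ⊗ₜ b)) = Algebra.TensorProduct.lmul' k₀ z • (a * b) := fun z a b => by
    induction z with
    | zero => simp
    | add p q hp hq => simp only [map_add, LinearMap.add_apply, hp, hq, add_smul]
    | tmul s t => simp [hθ, smul_smul, mul_comm]
  refine ⟨Ψ E, fun c => ?_, ?_⟩
  · have h2 : ∀ z : B ⊗[F] B,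
        TensorProduct.map (LinearMap.mulLeft k₀ c) LinearMap.id (Ψ z) =
          Ψ (TensorProduct.map (LinearMap.mulLeft F c) LinearMap.id z) ∧
        TensorProduct.map LinearMap.id (LinearMap.mulRight k₀ c) (Ψ z) =
          Ψ (TensorProduct.map LinearMap.id (LinearMap.mulRight F c) z) := fun z => by
      induction z with
      | zero => simp
      | add p q hp hq => simp only [map_add, hp.1, hp.2, hq.1, hq.2, and_self]
      | tmul a b =>
        simp only [hΨ, TensorProduct.map_tmul, LinearMap.mulLeft_apply, LinearMap.mulRight_apply,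
          LinearMap.id_apply]
        rw [(hcomm e c (a ⊗ₜ b)).1, (hcomm e c (a ⊗ₜ b)).2]
        simp
    rw [(h2 E).1, (h2 E).2, hE c]
  · rw [← h1]
    clear hE h1
    induction E with
    | zero => simp
    | add p q hp hq => simp only [map_add, hp, hq]
    | tmul a b =>
      rw [hΨ, hmul, Algebra.FormallyUnramified.lmul_elem, one_smul, LinearMap.mul'_apply]

end Field

section BaseChange

variable {k₀ : Type u} [Field k₀] {B : Type v} [Ring B] [Algebra k₀ B]

theorem isSemisimpleRing_baseChange_of_sepElem (h : HasSepElem k₀ B) (K : Type w) [Field K]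
    [Algebra k₀ K] : IsSemisimpleRing (K ⊗[k₀] B) := by
  obtain ⟨E, hE, h1⟩ := h
  refine (isSemisimpleModule_iff _ _).2 ⟨fun N => ?_⟩
  let N' : Submodule K (K ⊗[k₀] B) := N.restrictScalars K
  obtain ⟨Q, hQ⟩ := N'.exists_isCompl
  let π : Module.End K (K ⊗[k₀] B) := N'.subtype ∘ₗ N'.projectionOnto Q hQ
  have hπ : ∀ x, π x ∈ N := fun x => (N'.projectionOnto Q hQ x).2
  have hπN : ∀ x, x ∈ N → π x = x := fun x hx =>
    congrArg Subtype.val (Submodule.projectionOnto_apply_left hQ (⟨x, hx⟩ : N'))
  let L : B →ₐ[k₀] Module.End K (K ⊗[k₀] B) :=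
    ((Algebra.lmul K (K ⊗[k₀] B)).restrictScalars k₀).comp Algebra.TensorProduct.includeRight
  have hL : ∀ (b : B) x, L b x = ((1 : K) ⊗ₜ[k₀] b) * x := fun b x => rfl
  let Φ : B ⊗[k₀] B →ₗ[k₀] Module.End K (K ⊗[k₀] B) := TensorProduct.lift
    (LinearMap.mk₂ k₀ (fun a b => L a * π * L b)
      (fun a a' b => by simp only [map_add, add_mul])
      (fun c a b => by simp only [map_smul, smul_mul_assoc])
      (fun a b b' => by simp only [map_add, mul_add])
      (fun c a b => by simp only [map_smul, mul_smul_comm]))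
  have hΦ : ∀ (c : B) z,
      Φ (TensorProduct.map (LinearMap.mulLeft k₀ c) LinearMap.id z) = L c * Φ z ∧
      Φ (TensorProduct.map LinearMap.id (LinearMap.mulRight k₀ c) z) = Φ z * L c := fun c z => by
    induction z with
    | zero => simp
    | add p q hp hq => simp only [map_add, hp.1, hp.2, hq.1, hq.2, mul_add, add_mul, and_self]
    | tmul a b => simp [Φ, mul_assoc]
  have hcomm : ∀ c x, Φ E (((1 : K) ⊗ₜ[k₀] c) * x) = ((1 : K) ⊗ₜ[k₀] c) * Φ E x := fun c x => by
    have h2 := (hΦ c E).2
    rw [← hE c, (hΦ c E).1] at h2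
    exact (LinearMap.congr_fun h2 x).symm
  have hlin : ∀ r x, Φ E (r * x) = r * Φ E x := fun r x => by
    induction r with
    | zero => simp
    | add p q hp hq => rw [add_mul, add_mul, map_add, hp, hq]
    | tmul s c =>
      have hs : ∀ y, (s ⊗ₜ[k₀] c) * y = s • (((1 : K) ⊗ₜ[k₀] c) * y) := fun y => by
        rw [← smul_mul_assoc, TensorProduct.smul_tmul', smul_eq_mul, mul_one]
      rw [hs, hs, map_smul, hcomm]
  have hmem : ∀ x, Φ E x ∈ N := fun x => by
    clear hE h1 hcomm hlin
    induction E with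
    | zero => simp
    | add p q hp hq => rw [map_add, LinearMap.add_apply]; exact N.add_mem hp hq
    | tmul a b => exact N.smul_mem _ (hπ _)
  have hid : ∀ x ∈ N, Φ E x = ((1 : K) ⊗ₜ[k₀] LinearMap.mul' k₀ B E) * x := fun x hx => by
    clear hE h1 hcomm hlin hmem
    induction E with
    | zero => simp
    | add p q hp hq => rw [map_add, LinearMap.add_apply, hp, hq, map_add, TensorProduct.tmul_add, add_mul]
    | tmul a b =>
      change ((1 : K) ⊗ₜ[k₀] a) * π (((1 : K) ⊗ₜ[k₀] b) * x) = _
      rw [hπN _ (show ((1 : K) ⊗ₜ[k₀] b) * x ∈ N from N.smul_mem _ hx), ← mul_assoc]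
      simp
  let p : (K ⊗[k₀] B) →ₗ[K ⊗[k₀] B] N :=
    { toFun := fun x => ⟨Φ E x, hmem x⟩
      map_add' := fun x y => Subtype.ext (map_add (Φ E) x y)
      map_smul' := fun r x => Subtype.ext (hlin r x) }
  exact ⟨LinearMap.ker p, LinearMap.isCompl_of_proj (f := p) fun x => Subtype.ext (by
    change Φ E x = x
    rw [hid x x.2, h1, ← Algebra.TensorProduct.one_def, one_mul])⟩

end BaseChange

end CSALib
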