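import Groth.Agent.CSALib.PiTensor
import Groth.Agent.CSALib.Br

/-!
# Tensor powers in the Brauer group
-/

set_option autoImplicit false

universe u v w

open scoped TensorProduct

namespace CSALib

variable {k : Type u} [Field k]

section Fin

variable {N : ℕ} (A : Fin (N + 1) → Type v) [∀ i, Ring (A i)] [∀ i, Algebra k (A i)]

/-- The inclusion of the last factors. -/
noncomputable def tailHom : (⨂[k] i : Fin N, A i.succ) →ₐ[k] ⨂[k] i, A i :=
  PiTensorProduct.liftAlgHom ((PiTensorProduct.tprod k).curryLeft 1)
    (by
      rw [MultilinearMap.curryLeft_apply, show Fin.cons (1 : A 0) (1 : ∀ i : Fin N, A i.succ) = 1 from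
        funext fun i => by refine Fin.cases ?_ (fun j => ?_) i <;> simp]
      rfl)
    (fun x y => by
      simp only [MultilinearMap.curryLeft_apply, PiTensorProduct.tprod_mul_tprod]
      congr 1
      funext i
      refine Fin.cases ?_ (fun j => ?_) i <;> simp)

theorem tailHom_tprod (x : ∀ i : Fin N, A i.succ) :
    tailHom A (PiTensorProduct.tprod k x) = PiTensorProduct.tprod k (Fin.cons 1 x) :=
  PiTensorProduct.lift.tprod x

theorem commute_single_tailHom (a : A 0) (z : ⨂[k] i : Fin N, A i.succ) :
    Commute (PiTensorProduct.singleAlgHom (R := k) (A := A) 0 a) (tailHom A z) := by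
  induction z using PiTensorProduct.induction_on with
  | smul_tprod c x =>
    rw [map_smul, tailHom_tprod]
    refine Commute.smul_right ?_ c
    change PiTensorProduct.tprod k (Pi.mulSingle 0 a) * _ = _ * PiTensorProduct.tprod k (Pi.mulSingle 0 a)
    rw [PiTensorProduct.tprod_mul_tprod, PiTensorProduct.tprod_mul_tprod]
    congr 1
    funext i
    refine Fin.cases ?_ (fun j => ?_) i
    · simp
    · simp [Pi.mulSingle_eq_of_ne (Fin.succ_ne_zero j)]
  | add x y hx hy => rw [map_add]; exact hx.add_right hy

variable [∀ i, FiniteDimensional k (A i)] [∀ i, IsSimpleRing (A i)] [∀ i, Algebra.IsCentral k (A i)]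

/-- Splitting off the first factor. -/
noncomputable def consEquiv : A 0 ⊗[k] (⨂[k] i : Fin N, A i.succ) ≃ₐ[k] ⨂[k] i, A i :=
  equivOfHom (Algebra.TensorProduct.lift (PiTensorProduct.singleAlgHom 0) (tailHom A)
      (commute_single_tailHom A))
    (by rw [Module.finrank_tensorProduct, finrank_piTensor, finrank_piTensor, Fin.prod_univ_succ])

end Fin

theorem cl_pi_fin : ∀ {N : ℕ} (A : Fin N → Type v) [∀ i, Ring (A i)] [∀ i, Algebra k (A i)]
    [∀ i, FiniteDimensional k (A i)] [∀ i, IsSimpleRing (A i)] [∀ i, Algebra.IsCentral k (A i)],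
    cl k (⨂[k] i, A i) = ∏ i, cl k (A i) := by
  intro N
  induction N with
  | zero =>
    intro A _ _ _ _ _
    rw [Finset.univ_eq_empty, Finset.prod_empty, one_def]
    exact (cl_congr (equivOfHom (Algebra.ofId k (⨂[k] i, A i))
      (by rw [finrank_piTensor]; simp))).symm
  | succ N ih =>
    intro A _ _ _ _ _
    rw [← cl_congr (consEquiv A), ← cl_tensor, ih fun i => A i.succ, Fin.prod_univ_succ]

theorem cl_tpow (A : Type v) [Ring A] [Algebra k A] [Algebra.IsCentral k A] [IsSimpleRing A]
    [FiniteDimensional k A] (e : ℕ) : cl k (CSAGal.tpow k A e) = cl k A ^ e := by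
  rw [cl_pi_fin (fun _ : Fin e => A)]
  simp

section Reindex

variable {ι ι' : Type} (A : ι → Type v) [∀ i, Ring (A i)] [∀ i, Algebra k (A i)]

/-- Reindexing as an algebra equivalence. -/
noncomputable def reindexEquiv (e : ι ≃ ι') : (⨂[k] i, A i) ≃ₐ[k] ⨂[k] i', A (e.symm i') :=
  AlgEquiv.ofLinearEquiv (PiTensorProduct.reindex k A e)
    (by
      change PiTensorProduct.reindex k A e (PiTensorProduct.tprod k 1) = PiTensorProduct.tprod k 1
      rw [PiTensorProduct.reindex_tprod]
      rfl)
    (fun x y => by
      induction x using PiTensorProduct.induction_on with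
      | add p q hp hq => rw [add_mul, map_add, map_add, hp, hq, add_mul]
      | smul_tprod c f =>
        induction y using PiTensorProduct.induction_on with
        | add p q hp hq => rw [mul_add, map_add, map_add, hp, hq, mul_add]
        | smul_tprod c' g =>
          simp only [smul_mul_smul_comm, map_smul, PiTensorProduct.tprod_mul_tprod,
            PiTensorProduct.reindex_tprod]
          rfl)

theorem cl_pi [Fintype ι] [∀ i, FiniteDimensional k (A i)] [∀ i, IsSimpleRing (A i)]
    [∀ i, Algebra.IsCentral k (A i)] : cl k (⨂[k] i, A i) = ∏ i, cl k (A i) := by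
  classical
  rw [cl_congr (reindexEquiv A (Fintype.equivFin ι)),
    cl_pi_fin fun j => A ((Fintype.equivFin ι).symm j)]
  exact (Fintype.equivFin ι).symm.prod_comp fun i => cl k (A i)

end Reindex

end CSALib
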